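import Mathlib
import Cfsg.Prelude.Def_Local
import Cfsg.Agent.Lib.Helper4.ThBField

/-!
# S3801 (Gross: 2-length ≤ 2e - 1), shared definitions (helper13's coordinated design, prefix G2L)

`o22p2 X = O_{2,2',2}(X)`; `Good Γ`: every tight 2-element `g` of the finite linear group `Γ`
(tight for `m`: `(g - 1)^(2^m - 1) = 0`) has its socle `g^(2^(m-1))` in `O_{2,2',2}(Γ)`.
-/

set_option autoImplicit false

namespace Cfsg.Agent.G2L

open Cfsg Subgroup Cfsg.Agent.Helper4.ThB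

/-- `O_{2,2',2}(X)`: the preimage in `X` of `O_{2',2}(X / O_2(X))`. -/
def o22p2 (X : Type*) [Group X] : Subgroup X :=
  (pPrimePCore 2 (X ⧸ pCore 2 X)).comap (QuotientGroup.mk' (pCore 2 X))

variable {F : Type*} [Field F] {V : Type*} [AddCommGroup V] [Module F V]

/-- the conclusion of Gross's theorem (T) for a linear group `Γ`: socles of tight elements lie in
`O_{2,2',2}(Γ)` -/
def Good (Γ : Subgroup (V ≃ₗ[F] V)) : Prop :=
  ∀ g ∈ Γ, ∀ m : ℕ, 1 ≤ m → (op g - 1) ^ (2 ^ m - 1) = 0 →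
    g ^ 2 ^ (m - 1) ∈ (o22p2 ↥Γ).map Γ.subtype

/-- a nontrivial system of imprimitivity (block system) for the linear group `Γ`: at least two
nonzero subspaces, in direct sum, spanning `V`, permuted by `Γ` -/
def IsBlockSystem (Γ : Subgroup (V ≃ₗ[F] V)) (S : Finset (Submodule F V)) : Prop :=
  2 ≤ S.card ∧ (∀ W ∈ S, W ≠ ⊥) ∧ iSupIndep (fun W : S => (W : Submodule F V)) ∧
    (⨆ W ∈ S, W) = ⊤ ∧ ∀ γ ∈ Γ, ∀ W ∈ S, W.map (γ : V →ₗ[F] V) ∈ S

/-- `Γ` leaves the subspace `U` invariant -/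
def Inv (Γ : Subgroup (V ≃ₗ[F] V)) (U : Submodule F V) : Prop :=
  ∀ γ ∈ Γ, ∀ u ∈ U, γ u ∈ U

end Cfsg.Agent.G2L
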