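import Mathlib
import Cfsg.Agent.Lib.G2L.Defs

/-!
# S3801 / G2L, BLOCK IMP (imprimitive step): if `Γ` has a nontrivial block system and (T) holds in
smaller dimension, then (T) holds for `Γ`.
Proof: the socle `g₀` of a tight `g` fixes every block (a moved block gives a regular `⟨g⟩`-orbit of
blocks, hence `∑ g^i v ≠ 0`); for a block `W` with `⟨g⟩`-orbit of size `2^s`, `h = g^(2^s)` is tight
for `m - s` on `W`; induction for the image of the stabiliser of `W` in `GL(W)`; the intersection of
the preimages of the `O_{2,2',2}` is a normal subgroup of `Γ` embedding in a product, so it lies in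
`O_{2,2',2}(Γ)`.
-/

set_option autoImplicit false

namespace Cfsg.Agent.G2L

open Cfsg Subgroup Module Cfsg.Agent.Helper4.ThB

universe u v

theorem step_imprimitive {F : Type u} [Field F] [CharP F 2] {V : Type v} [AddCommGroup V]
    [Module F V] [FiniteDimensional F V]
    (ih : ∀ (V' : Type v) [AddCommGroup V'] [Module F V'] [FiniteDimensional F V'],
      finrank F V' < finrank F V → ∀ Γ' : Subgroup (V' ≃ₗ[F] V'), Finite Γ' →
      Group.IsSolvable Γ' → Good Γ')
    (Γ : Subgroup (V ≃ₗ[F] V)) (hfin : Finite Γ) (hsol : Group.IsSolvable Γ)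
    (S : Finset (Submodule F V)) (hS : IsBlockSystem Γ S) : Good Γ := by
  sorry

end Cfsg.Agent.G2L
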