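import Mathlib
import Cfsg.Agent.Lib.G2L.Defs
import Cfsg.Agent.Lib.Helper24.BG101A
import Cfsg.Agent.Lib.Helper22.PPrimeCore

/-!
# S3801 / G2L: `O_{2',2}(X) ≤ O_{2,2',2}(X)` (helper13)
-/

set_option autoImplicit false

namespace Cfsg.Agent.G2L

open Cfsg Subgroup

/-- the image of `O_{p',p}` under a surjective homomorphism lies in `O_{p',p}` -/
theorem map_pPrimePCore_le_of_surjective {X Y : Type*} [Group X] [Finite X] [Group Y] [Finite Y]
    (p : ℕ) [Fact p.Prime] (π : X →* Y) (hπ : Function.Surjective π) :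
    (pPrimePCore p X).map π ≤ pPrimePCore p Y := by
  haveI : (pPrimePCore p X).Normal := Cfsg.Agent.Helper24.BG101.pPrimePCore_normal' p
  haveI hn : ((pPrimePCore p X).map π).Normal := Subgroup.Normal.map inferInstance π hπ
  apply Cfsg.Agent.Helper24.BG101.le_pPrimePCore_of_pow_mem p
  rintro _ ⟨x, hx, rfl⟩
  obtain ⟨k, hk⟩ := Cfsg.Agent.Helper24.BG101.exists_pow_mem_pPrimeCore p hx
  refine ⟨k, ?_⟩
  rw [← map_pow]
  have h1 : ((pPrimeCore p X).map π).Normal := Subgroup.Normal.map inferInstance π hπ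
  have h2 : (Nat.card ((pPrimeCore p X).map π)).Coprime p := by
    have h3 : Nat.card ((pPrimeCore p X).map π) ∣ Nat.card (pPrimeCore p X) :=
      Subgroup.card_map_dvd (pPrimeCore p X) π
    exact Nat.Coprime.coprime_dvd_left h3 (Cfsg.Agent.Helper22.card_pPrimeCore_coprime p)
  exact Cfsg.Agent.Helper22.le_pPrimeCore p _ h1 h2 ⟨_, hk, rfl⟩

/-- `O_{2',2}(X) ≤ O_{2,2',2}(X)` -/
theorem pPrimePCore_le_o22p2 (X : Type*) [Group X] [Finite X] : pPrimePCore 2 X ≤ o22p2 X := by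
  haveI : Fact (Nat.Prime 2) := ⟨Nat.prime_two⟩
  intro x hx
  unfold o22p2
  rw [Subgroup.mem_comap]
  exact map_pPrimePCore_le_of_surjective 2 (QuotientGroup.mk' (pCore 2 X))
    (QuotientGroup.mk'_surjective _) ⟨x, hx, rfl⟩

end Cfsg.Agent.G2L
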