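import Mathlib
import Cfsg.Agent.Lib.G2L.Defs

/-!
# S3801 / G2L, piece PRIM-EIG: joint generalised eigenspaces of an abelian normal subgroup form a block system.

`B ≤ Γ` abelian, normalised by `Γ` (finite), `F` algebraically closed. For `χ : B → F` let
`V_χ = ⨅ b, maxGenEigenspace (op b) (χ b)`. Mathlib (`Mathlib/LinearAlgebra/Eigenspace/Pi.lean`,
`.../Triangularizable.lean`): for a commuting family `f : ι → End V` over an algebraically closed field,
`Module.End.independent_iInf_maxGenEigenspace_of_forall_mapsTo` and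
`Module.End.iSup_iInf_maxGenEigenspace_eq_top_of_iSup_maxGenEigenspace_eq_top_of_commute`
(with `Module.End.iSup_maxGenEigenspace_eq_top`) give: the `V_χ` are independent with supremum `⊤`.
`γ ∈ Γ` maps `V_χ` onto `V_{χ'}`, `χ' b = χ (γ⁻¹ b γ)`. Let `S` = the finite set of NONZERO `V_χ`
(finitely many by independence in a finite-dimensional space; or: `B` finite and each `op b` has finitely many
eigenvalues). If `S.card ≥ 2` it is a block system; otherwise there is exactly one nonzero `V_χ` and it is `⊤`.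
-/

set_option autoImplicit false

namespace Cfsg.Agent.G2L

open Cfsg Subgroup Module Cfsg.Agent.Helper4.ThB

universe u v

section g2lpe

variable {F : Type u} [Field F] {V : Type v} [AddCommGroup V] [Module F V]

/-- the joint generalised eigenspace of `B` for the weight `χ` -/
def g2lpe_wt (B : Subgroup (V ≃ₗ[F] V)) (χ : B → F) : Submodule F V :=
  ⨅ b : B, Module.End.maxGenEigenspace (op b.1) (χ b)

theorem g2lpe_mapsTo (B : Subgroup (V ≃ₗ[F] V)) (hab : ∀ a ∈ B, ∀ b ∈ B, a * b = b * a)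
    (i j : B) (φ : F) :
    Set.MapsTo (op i.1) ((op j.1).maxGenEigenspace φ) ((op j.1).maxGenEigenspace φ) := by
  apply Module.End.mapsTo_maxGenEigenspace_of_comm
  show op j.1 * op i.1 = op i.1 * op j.1
  rw [← op_mul, ← op_mul, hab j.1 j.2 i.1 i.2]

theorem g2lpe_wt_top [IsAlgClosed F] [FiniteDimensional F V] (B : Subgroup (V ≃ₗ[F] V))
    (hab : ∀ a ∈ B, ∀ b ∈ B, a * b = b * a) : (⨆ χ : B → F, g2lpe_wt B χ) = ⊤ :=
  Module.End.iSup_iInf_maxGenEigenspace_eq_top_of_forall_mapsTo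
    (fun b : B => op b.1) (g2lpe_mapsTo B hab)
    (fun b => Module.End.iSup_maxGenEigenspace_eq_top (op b.1))

theorem g2lpe_wt_indep (B : Subgroup (V ≃ₗ[F] V)) (hab : ∀ a ∈ B, ∀ b ∈ B, a * b = b * a) :
    iSupIndep (fun χ : B → F => g2lpe_wt B χ) :=
  Module.End.independent_iInf_maxGenEigenspace_of_forall_mapsTo
    (fun b : B => op b.1) (g2lpe_mapsTo B hab)

theorem g2lpe_wt_finite [FiniteDimensional F V] (B : Subgroup (V ≃ₗ[F] V))
    (hab : ∀ a ∈ B, ∀ b ∈ B, a * b = b * a) : {χ : B → F | g2lpe_wt B χ ≠ ⊥}.Finite :=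
  WellFoundedGT.finite_ne_bot_of_iSupIndep (g2lpe_wt_indep B hab)

/-- conjugation moves generalised eigenspaces -/
theorem g2lpe_conj_mem (γ b b' : V ≃ₗ[F] V) (hb' : b' = γ * b * γ⁻¹) (c : F) (v : V)
    (hv : v ∈ Module.End.maxGenEigenspace (op b) c) :
    γ v ∈ Module.End.maxGenEigenspace (op b') c := by
  subst hb'
  rw [Module.End.mem_maxGenEigenspace] at hv ⊢
  obtain ⟨k, hk⟩ := hv
  refine ⟨k, ?_⟩
  have h1 : (op (γ * b * γ⁻¹) - c • (1 : Module.End F V)) * op γ =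
      op γ * (op b - c • (1 : Module.End F V)) := by
    rw [sub_mul, mul_sub, ← op_mul, inv_mul_cancel_right, op_mul, smul_mul_assoc, one_mul,
      mul_smul_comm, mul_one]
  have key : ∀ k : ℕ, (op (γ * b * γ⁻¹) - c • (1 : Module.End F V)) ^ k * op γ =
      op γ * (op b - c • (1 : Module.End F V)) ^ k := by
    intro k
    induction k with
    | zero => rw [pow_zero, pow_zero, one_mul, mul_one]
    | succ k ih => rw [pow_succ, mul_assoc, h1, ← mul_assoc, ih, mul_assoc, ← pow_succ]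
  have h2 := congrArg (fun f : Module.End F V => f v) (key k)
  simp only [Module.End.mul_apply] at h2
  rw [op_apply] at h2
  rw [h2, hk, map_zero]

/-- the image of a joint generalised eigenspace under a normalising element -/
theorem g2lpe_map_wt (B : Subgroup (V ≃ₗ[F] V)) (γ : V ≃ₗ[F] V)
    (hn : ∀ b ∈ B, γ * b * γ⁻¹ ∈ B) (hn' : ∀ b ∈ B, γ⁻¹ * b * γ ∈ B) (χ : B → F) :
    (g2lpe_wt B χ).map (γ : V →ₗ[F] V) =
      g2lpe_wt B (fun b => χ ⟨γ⁻¹ * b.1 * γ, hn' b.1 b.2⟩) := by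
  apply le_antisymm
  · rintro _ ⟨v, hv, rfl⟩
    have hv' : v ∈ g2lpe_wt B χ := hv
    rw [g2lpe_wt, Submodule.mem_iInf] at hv'
    rw [g2lpe_wt, Submodule.mem_iInf]
    intro b'
    have h1 := hv' ⟨γ⁻¹ * b'.1 * γ, hn' b'.1 b'.2⟩
    exact g2lpe_conj_mem γ (γ⁻¹ * b'.1 * γ) b'.1 (by group) _ v h1
  · intro w hw
    rw [g2lpe_wt, Submodule.mem_iInf] at hw
    refine ⟨γ⁻¹ w, ?_, ?_⟩
    · rw [SetLike.mem_coe, g2lpe_wt, Submodule.mem_iInf]
      intro b
      have h1 := hw ⟨γ * b.1 * γ⁻¹, hn b.1 b.2⟩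
      have e : (⟨γ⁻¹ * (γ * b.1 * γ⁻¹) * γ, hn' _ (hn b.1 b.2)⟩ : B) = b := by
        apply Subtype.ext
        show γ⁻¹ * (γ * b.1 * γ⁻¹) * γ = b.1
        group
      simp only at h1
      rw [e] at h1
      exact g2lpe_conj_mem γ⁻¹ (γ * b.1 * γ⁻¹) b.1 (by group) _ w h1
    · show (γ * γ⁻¹) w = w
      rw [mul_inv_cancel]
      rfl

end g2lpe

theorem blockSystem_or_joint {F : Type u} [Field F] [IsAlgClosed F] {V : Type v} [AddCommGroup V]
    [Module F V] [FiniteDimensional F V] [Nontrivial V] (Γ : Subgroup (V ≃ₗ[F] V)) [Finite Γ]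
    (B : Subgroup (V ≃ₗ[F] V)) (hBΓ : B ≤ Γ) (hnorm : ∀ h ∈ Γ, ∀ b ∈ B, h * b * h⁻¹ ∈ B)
    (hab : ∀ a ∈ B, ∀ b ∈ B, a * b = b * a) :
    (∃ S : Finset (Submodule F V), IsBlockSystem Γ S) ∨
      ∃ χ : (V ≃ₗ[F] V) → F, ∀ b ∈ B, Module.End.maxGenEigenspace (op b) (χ b) = ⊤ := by
  classical
  set S : Finset (Submodule F V) := (g2lpe_wt_finite B hab).toFinset.image (g2lpe_wt B) with hS
  have hmem : ∀ W, W ∈ S ↔ ∃ χ : B → F, g2lpe_wt B χ ≠ ⊥ ∧ g2lpe_wt B χ = W := by
    intro W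
    rw [hS, Finset.mem_image]
    constructor
    · rintro ⟨χ, hχ, rfl⟩
      exact ⟨χ, (Set.Finite.mem_toFinset _).mp hχ, rfl⟩
    · rintro ⟨χ, hχ, rfl⟩
      exact ⟨χ, (Set.Finite.mem_toFinset _).mpr hχ, rfl⟩
  have htop : (⨆ W ∈ S, W) = (⊤ : Submodule F V) := by
    rw [eq_top_iff, ← g2lpe_wt_top B hab]
    apply iSup_le
    intro χ
    by_cases hχ : g2lpe_wt B χ = ⊥
    · rw [hχ]; exact bot_le
    · exact le_iSup₂ (f := fun (W : Submodule F V) (_ : W ∈ S) => W) (g2lpe_wt B χ)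
        ((hmem _).mpr ⟨χ, hχ, rfl⟩)
  by_cases hcard : 2 ≤ S.card
  · left
    refine ⟨S, hcard, ?_, ?_, htop, ?_⟩
    · intro W hW
      obtain ⟨χ, hχ, rfl⟩ := (hmem W).mp hW
      exact hχ
    · have h1 : sSupIndep (S : Set (Submodule F V)) := by
        apply (g2lpe_wt_indep B hab).sSupIndep_range.mono
        intro W hW
        obtain ⟨χ, -, rfl⟩ := (hmem W).mp (Finset.mem_coe.mp hW)
        exact ⟨χ, rfl⟩
      exact (sSupIndep_iff _).mp h1
    · intro γ hγ W hW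
      obtain ⟨χ, hχ, rfl⟩ := (hmem W).mp hW
      have hn : ∀ b ∈ B, γ * b * γ⁻¹ ∈ B := hnorm γ hγ
      have hn' : ∀ b ∈ B, γ⁻¹ * b * γ ∈ B := by
        intro b hb
        have := hnorm γ⁻¹ (Γ.inv_mem hγ) b hb
        rwa [inv_inv] at this
      rw [g2lpe_map_wt B γ hn hn' χ]
      apply (hmem _).mpr
      refine ⟨_, ?_, rfl⟩
      rw [← g2lpe_map_wt B γ hn hn' χ]
      intro h0
      apply hχ
      rw [Submodule.map_eq_bot_iff] at h0
      exact h0
  · right
    have hcard' : S.card ≤ 1 := by omega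
    have hex : ∃ χ : B → F, g2lpe_wt B χ = ⊤ := by
      rcases Finset.eq_empty_or_nonempty S with he | ⟨W, hW⟩
      · rw [he] at htop
        simp only [Finset.notMem_empty, iSup_false, iSup_bot] at htop
        refine ⟨fun _ => 0, ?_⟩
        rw [eq_top_iff, ← htop]
        exact bot_le
      · obtain ⟨χ, -, hχW⟩ := (hmem W).mp hW
        refine ⟨χ, ?_⟩
        rw [hχW, ← htop]
        apply le_antisymm
        · exact le_iSup₂ (f := fun (W : Submodule F V) (_ : W ∈ S) => W) W hW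
        · apply iSup₂_le
          intro W' hW'
          rw [Finset.card_le_one.mp hcard' W' hW' W hW]
    obtain ⟨χ, hχ⟩ := hex
    refine ⟨fun g => if h : g ∈ B then χ ⟨g, h⟩ else 0, ?_⟩
    intro b hb
    simp only [dif_pos hb]
    rw [eq_top_iff, ← hχ]
    exact iInf_le (fun b : B => Module.End.maxGenEigenspace (op b.1) (χ b)) ⟨b, hb⟩

end Cfsg.Agent.G2L
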