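import Mathlib
import Cfsg.Agent.Lib.G2L.Defs

/-!
# S3801 / G2L, piece PRIM-O2: an irreducible finite linear group in characteristic 2 has `O_2 = 1`.

Proof: `N = O_2(Γ)` (image in `GL(V)`: `(pCore 2 ↥Γ).map Γ.subtype`) is a finite normal 2-subgroup. Its fixed space
`C_V(N) = {v | ∀ n ∈ N, n v = v}` is `Γ`-invariant (normality) and NONZERO: by induction on `|N|` (or on a central
series / a chain `1 = N_0 < N_1 < … < N_k = N` with `|N_{i+1} : N_i| = 2`, `N_i ⊴ N`): if `W = C_V(N_i) ≠ 0` and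
`x ∈ N_{i+1} \ N_i` then `x` maps `W` to `W`, `x^2` acts trivially on `W`, so `(x - 1)^2 = x^2 - 1 = 0` on `W`
(characteristic 2) and `ker (x - 1) ∩ W ≠ 0`. (Alternative: a nonzero finite-dimensional `F`-space with a 2-group of
unipotent operators; or count: the `𝔽₂`-span of an orbit is a finite 2-group acted on by a 2-group.)
By irreducibility `C_V(N) = ⊤`, so every `n ∈ N` is the identity map, i.e. `N = ⊥`.
-/

set_option autoImplicit false

namespace Cfsg.Agent.G2L

open Cfsg Subgroup Module Cfsg.Agent.Helper4.ThB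

universe u v

/-- a finite 2-group of linear automorphisms of a nonzero space in characteristic 2 fixes a
nonzero vector -/
theorem g2l_primo2_fixed {F : Type u} [Field F] [CharP F 2] {V : Type v} [AddCommGroup V] [Module F V]
    [Nontrivial V] (P : Subgroup (V ≃ₗ[F] V)) [Finite P] (hP : IsPGroup 2 P) :
    ∃ w : V, w ≠ 0 ∧ ∀ g ∈ P, g w = w := by
  classical
  obtain ⟨v0, hv0⟩ := exists_ne (0 : V)
  have h2 : ∀ x : V, x + x = 0 := by
    intro x
    have h : ((2 : ℕ) : F) = 0 := CharP.cast_eq_zero F 2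
    have h' : (2 : F) = 0 := by exact_mod_cast h
    rw [← two_smul F x, h', zero_smul]
  set S : Set V := Set.range (fun g : P => (g : V ≃ₗ[F] V) v0) with hS
  have hSfin : S.Finite := Set.finite_range _
  set M : AddSubgroup V := AddSubgroup.closure S with hM
  have hinv : ∀ g ∈ P, ∀ m ∈ M, g m ∈ M := by
    intro g hg m hm
    induction hm using AddSubgroup.closure_induction with
    | mem x hx =>
      obtain ⟨h, rfl⟩ := hx
      apply AddSubgroup.subset_closure
      exact ⟨⟨g, hg⟩ * h, rfl⟩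
    | zero => rw [map_zero]; exact M.zero_mem
    | add x y _ _ hx hy => rw [map_add]; exact M.add_mem hx hy
    | neg x _ hx => rw [map_neg]; exact M.neg_mem hx
  have hv0M : v0 ∈ M := AddSubgroup.subset_closure ⟨1, rfl⟩
  have hfg : AddGroup.FG ↥M := by
    rw [AddGroup.fg_iff_addSubgroup_fg]
    exact ⟨hSfin.toFinset, by rw [Set.Finite.coe_toFinset]⟩
  have htor : IsAddTorsion ↥M := by
    intro x
    rw [isOfFinAddOrder_iff_nsmul_eq_zero]
    refine ⟨2, two_pos, ?_⟩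
    rw [two_nsmul]
    exact Subtype.ext (h2 x.1)
  have hMfin : Finite ↥M := AddCommGroup.finite_of_fg_isAddTorsion ↥M htor
  have hdvd : 2 ∣ Nat.card ↥M := by
    set v' : ↥M := ⟨v0, hv0M⟩ with hv'
    have h1 : addOrderOf v' = 2 := by
      apply addOrderOf_eq_prime
      · rw [two_nsmul]; exact Subtype.ext (h2 v0)
      · intro h; exact hv0 (congrArg Subtype.val h)
    have h3 : Nat.card (AddSubgroup.zmultiples v') ∣ Nat.card ↥M :=
      AddSubgroup.card_addSubgroup_dvd_card _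
    rwa [Nat.card_zmultiples, h1] at h3
  let act : MulAction ↥P ↥M :=
    { smul := fun g m => ⟨(g : V ≃ₗ[F] V) m.1, hinv g.1 g.2 m.1 m.2⟩
      one_smul := fun m => Subtype.ext rfl
      mul_smul := fun g h m => Subtype.ext rfl }
  have : Fact (Nat.Prime 2) := ⟨Nat.prime_two⟩
  have h0 : (⟨0, M.zero_mem⟩ : ↥M) ∈ MulAction.fixedPoints ↥P ↥M := by
    intro g
    exact Subtype.ext (map_zero (g : V ≃ₗ[F] V))
  obtain ⟨b, hb, hne⟩ := hP.exists_fixed_point_of_prime_dvd_card_of_fixed_point ↥M hdvd h0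
  refine ⟨b.1, ?_, ?_⟩
  · intro h
    exact hne (Subtype.ext h.symm)
  · intro g hg
    exact congrArg Subtype.val (hb ⟨g, hg⟩)

theorem irr_pCore_bot {F : Type u} [Field F] [CharP F 2] {V : Type v} [AddCommGroup V] [Module F V]
    [FiniteDimensional F V] [Nontrivial V] (Γ : Subgroup (V ≃ₗ[F] V)) [Finite Γ]
    (hirr : Irr (Γ : Set (V ≃ₗ[F] V))) : Cfsg.pCore 2 ↥Γ = ⊥ := by
  classical
  have hNn : (Cfsg.pCore 2 ↥Γ).Normal := Subgroup.sSup_normal _ (fun _ h => h.1)
  have hN2 : IsPGroup 2 ↥(Cfsg.pCore 2 ↥Γ) :=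
    Sylow.sSup_of_normal _ (fun _ h => h.2) (fun _ h => h.1)
  set N : Subgroup ↥Γ := Cfsg.pCore 2 ↥Γ with hN
  set P : Subgroup (V ≃ₗ[F] V) := N.map Γ.subtype with hPdef
  have hP2 : IsPGroup 2 ↥P := hN2.map _
  have : Finite ↥P := by
    have : (P : Set (V ≃ₗ[F] V)) ⊆ (Γ : Set (V ≃ₗ[F] V)) := by
      rintro _ ⟨n, -, rfl⟩
      exact n.2
    exact Set.Finite.subset (Set.toFinite (Γ : Set (V ≃ₗ[F] V))) this
  obtain ⟨w, hw0, hw⟩ := g2l_primo2_fixed P hP2
  -- the fixed space of `P`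
  let U : Submodule F V :=
    { carrier := {v | ∀ g ∈ P, g v = v}
      add_mem' := by
        intro a b ha hb g hg
        rw [map_add, ha g hg, hb g hg]
      zero_mem' := by
        intro g _
        exact map_zero g
      smul_mem' := by
        intro c a ha g hg
        rw [map_smul, ha g hg] }
  have hUinv : ∀ g ∈ (Γ : Set (V ≃ₗ[F] V)), ∀ v ∈ U, g v ∈ U := by
    intro g hg v hv n hn
    obtain ⟨n0, hn0, rfl⟩ := hn
    -- `g⁻¹ n g ∈ P`
    have hc : (⟨g, hg⟩ : ↥Γ)⁻¹ * n0 * (⟨g, hg⟩ : ↥Γ)⁻¹⁻¹ ∈ N := hNn.conj_mem n0 hn0 _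
    have hc' : g⁻¹ * (n0 : V ≃ₗ[F] V) * g ∈ P := by
      refine ⟨_, hc, ?_⟩
      simp
    have h1 := hv _ hc'
    have h2 : (g⁻¹ * (n0 : V ≃ₗ[F] V) * g) v = g⁻¹ ((n0 : V ≃ₗ[F] V) (g v)) := rfl
    rw [h2] at h1
    have h3 : g (g⁻¹ ((n0 : V ≃ₗ[F] V) (g v))) = (n0 : V ≃ₗ[F] V) (g v) := by
      show (g * g⁻¹) ((n0 : V ≃ₗ[F] V) (g v)) = _
      rw [mul_inv_cancel]; rfl
    show (n0 : V ≃ₗ[F] V) (g v) = g v
    rw [← h3, h1]
  rcases hirr U hUinv with hbot | htop
  · exfalso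
    have hwU : w ∈ U := hw
    rw [hbot, Submodule.mem_bot] at hwU
    exact hw0 hwU
  · rw [Subgroup.eq_bot_iff_forall]
    intro n hn
    have hfix : ∀ v : V, (n : V ≃ₗ[F] V) v = v := by
      intro v
      have hv : v ∈ U := by rw [htop]; exact Submodule.mem_top
      exact hv _ ⟨n, hn, rfl⟩
    apply Subtype.ext
    apply LinearEquiv.ext
    intro v
    exact hfix v

end Cfsg.Agent.G2L
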