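import Mathlib
import Cfsg.Agent.Lib.G2L.Defs

/-!
# S3801 / G2L, piece PRIM-SCAL: an element of odd order with a single generalised eigenvalue is a scalar (char 2).

`b ^ n = 1`, `n` odd, `maxGenEigenspace (op b) c = ⊤`, i.e. `op b - c • 1` is nilpotent (finite dimension:
`Module.End.maxGenEigenspace_eq_genEigenspace_finrank`, `Module.End.mem_genEigenspace`). `c ≠ 0` (`b` invertible, `V ≠ 0`).
`u = c⁻¹ • op b` is unipotent: `(u - 1)^(2^k) = u^(2^k) - 1 = 0` for `2^k ≥ finrank` (`sub_one_pow_char_pow`-style, char 2),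
and `u^n = c⁻ⁿ • 1` is unipotent and scalar, so `c⁻ⁿ = 1` (Nontrivial `V`) and `u^n = 1`; `gcd(n, 2^k) = 1` gives `u = 1`.
-/

set_option autoImplicit false

namespace Cfsg.Agent.G2L

open Cfsg Subgroup Module Cfsg.Agent.Helper4.ThB

universe u v

theorem g2l_primscal_charP {F : Type u} [Field F] [CharP F 2] {V : Type v}
    [AddCommGroup V] [Module F V] [Nontrivial V] : CharP (Module.End F V) 2 := by
  refine ⟨fun x => ?_⟩
  have h3 : ((x : F)) • (1 : Module.End F V) = (x : Module.End F V) := by
    simp [Nat.cast_smul_eq_nsmul]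
  constructor
  · intro hx
    have h1 : ((x : F)) • (1 : Module.End F V) = 0 := by
      rw [h3, hx]
    have : (x : F) = 0 := by
      by_contra hne
      have := (smul_eq_zero.mp h1).resolve_left hne
      exact one_ne_zero this
    exact (CharP.cast_eq_zero_iff F 2 x).mp this
  · intro hx
    have : (x : F) = 0 := (CharP.cast_eq_zero_iff F 2 x).mpr hx
    have h2 : ((x : F)) • (1 : Module.End F V) = 0 := by rw [this, zero_smul]
    rw [← h3, h2]

theorem g2l_primscal_core {F : Type u} [Field F] [CharP F 2] {V : Type v}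
    [AddCommGroup V] [Module F V] [FiniteDimensional F V] [Nontrivial V] (B : Module.End F V) (n : ℕ)
    (hn : Odd n) (hB : B ^ n = 1) (c : F) (h : Module.End.maxGenEigenspace B c = ⊤) :
    B = c • (1 : Module.End F V) := by
  classical
  have : Fact (Nat.Prime 2) := ⟨Nat.prime_two⟩
  have : CharP (Module.End F V) 2 := g2l_primscal_charP
  set d := Module.finrank F V with hd
  -- N ^ d = 0
  have hN : (B - c • (1 : Module.End F V)) ^ d = 0 := by
    have h1 := Module.End.maxGenEigenspace_eq_genEigenspace_finrank B c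
    rw [h] at h1
    apply LinearMap.ext
    intro x
    have hx : x ∈ Module.End.genEigenspace B c (Module.finrank F V : ℕ) := by
      rw [← h1]; trivial
    rw [Module.End.mem_genEigenspace_nat] at hx
    simpa [Algebra.algebraMap_eq_smul_one] using hx
  have hdk : d ≤ 2 ^ d := (Nat.lt_two_pow_self).le
  have hN2 : (B - c • (1 : Module.End F V)) ^ (2 ^ d) = 0 := by
    rw [← Nat.sub_add_cancel hdk, pow_add, hN, mul_zero]
  have hcomm : Commute B (c • (1 : Module.End F V)) := by
    apply Commute.smul_right; exact Commute.one_right B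
  have hB2 : B ^ (2 ^ d) = (c ^ (2 ^ d)) • (1 : Module.End F V) := by
    have := sub_pow_char_pow_of_commute 2 d hcomm
    rw [hN2] at this
    rw [eq_comm, sub_eq_zero] at this
    rw [this, smul_pow, one_pow]
  -- find i with i * 2^d ≡ 1 mod n
  obtain ⟨i, j, hij⟩ : ∃ i j : ℕ, 2 ^ d * i = n * j + 1 := by
    rcases Nat.lt_or_ge 1 n with h1 | h1
    · have hcop : Nat.Coprime (2 ^ d) n := by
        apply Nat.Coprime.pow_left
        exact Nat.coprime_two_left.mpr hn
      obtain ⟨m, -, hm⟩ := Nat.exists_mul_mod_eq_one_of_coprime hcop h1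
      refine ⟨m, 2 ^ d * m / n, ?_⟩
      have := Nat.div_add_mod (2 ^ d * m) n
      rw [hm] at this
      exact this.symm
    · have hn1 : n = 1 := by
        rcases hn with ⟨t, ht⟩; omega
      subst hn1
      exact ⟨1, 2 ^ d - 1, by have : 1 ≤ 2 ^ d := Nat.one_le_two_pow; omega⟩
  have hBe : B = (c ^ (2 ^ d * i)) • (1 : Module.End F V) := by
    have h1 : B ^ (2 ^ d * i) = B := by
      rw [hij, pow_succ, pow_mul, hB, one_pow, one_mul]
    rw [← h1]
    conv_lhs => rw [pow_mul, hB2, smul_pow, one_pow, ← pow_mul]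
  set e := c ^ (2 ^ d * i) with he
  -- (e - c) • 1 nilpotent
  have hec : ((e - c) ^ d) • (1 : Module.End F V) = 0 := by
    have : B - c • (1 : Module.End F V) = (e - c) • (1 : Module.End F V) := by
      rw [hBe, sub_smul]
    rw [this, smul_pow, one_pow] at hN
    exact hN
  have hec2 : e = c := by
    have := (smul_eq_zero.mp hec).resolve_right one_ne_zero
    have := pow_eq_zero_iff (n := d) (a := e - c) ?_ |>.mp this
    · exact sub_eq_zero.mp this
    · exact (Module.finrank_pos (R := F) (M := V)).ne'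
  rw [hBe, hec2]

theorem op_eq_smul_of_maxGenEigenspace_top {F : Type u} [Field F] [CharP F 2] {V : Type v}
    [AddCommGroup V] [Module F V] [FiniteDimensional F V] [Nontrivial V] (b : V ≃ₗ[F] V) (n : ℕ)
    (hn : Odd n) (hb : b ^ n = 1) (c : F) (h : Module.End.maxGenEigenspace (op b) c = ⊤) :
    op b = c • (1 : Module.End F V) := by
  have hB : (op b) ^ n = 1 := by rw [← op_pow, hb, op_one]
  exact g2l_primscal_core (op b) n hn hB c h

end Cfsg.Agent.G2L
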