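import Mathlib
import Cfsg.Agent.Lib.G2L.Defs
import Cfsg.Agent.Lib.G2L.O22
import Cfsg.Agent.Lib.G2L.PrimO2
import Cfsg.Agent.Lib.G2L.PrimEig
import Cfsg.Agent.Lib.G2L.PrimScal
import Cfsg.Agent.Lib.GT.GTCore
import Cfsg.Agent.Lib.Helper21.HHXLIN

/-!
# S3801 / G2L, BLOCK PRIM (primitive step): (T) for an irreducible primitive finite solvable linear
group over an algebraically closed field of characteristic 2, from helper21's `GT.core`.
-/

set_option autoImplicit false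

namespace Cfsg.Agent.G2L

open Cfsg Subgroup Module Cfsg.Agent.Helper4.ThB

universe u v

theorem step_primitive {F : Type u} [Field F] [CharP F 2] [IsAlgClosed F] {V : Type v}
    [AddCommGroup V] [Module F V] [FiniteDimensional F V] [Nontrivial V]
    (Γ : Subgroup (V ≃ₗ[F] V)) (hfin : Finite Γ) (hsol : Group.IsSolvable Γ)
    (hirr : Irr (Γ : Set (V ≃ₗ[F] V)))
    (hprim : ¬ ∃ S : Finset (Submodule F V), IsBlockSystem Γ S) : Good Γ := by
  haveI : Fact (Nat.Prime 2) := ⟨Nat.prime_two⟩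
  intro g hg m hm ht
  have hO2 : Cfsg.pCore 2 ↥Γ = ⊥ := irr_pCore_bot Γ hirr
  have hgm : g ^ 2 ^ m = 1 := Cfsg.Agent.Helper3.HHX.xlin_pow_eq_one g m ht
  have hsc : ∀ B : Subgroup (V ≃ₗ[F] V), B ≤ Γ → (∀ h ∈ Γ, ∀ b ∈ B, h * b * h⁻¹ ∈ B) →
      (∀ a ∈ B, ∀ b ∈ B, a * b = b * a) → Odd (Nat.card B) →
      ∀ b ∈ B, ∃ c : F, op b = c • (1 : Module.End F V) := by
    intro B hBΓ hnorm hab hodd b hb
    rcases blockSystem_or_joint Γ B hBΓ hnorm hab with hS | ⟨χ, hχ⟩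
    · exact absurd hS hprim
    · haveI : Finite B := Finite.of_injective (fun x : B => (⟨x.1, hBΓ x.2⟩ : Γ))
        (fun x y hxy => Subtype.ext (congrArg (fun z : Γ => z.1) hxy))
      have hpow : b ^ Nat.card B = 1 := by
        have h1 : (⟨b, hb⟩ : B) ^ Nat.card B = 1 := pow_card_eq_one'
        have h2 : ((⟨b, hb⟩ : B) ^ Nat.card B : B).1 = (1 : B).1 := congrArg Subtype.val h1
        rw [Subgroup.coe_pow, Subgroup.coe_one] at h2
        exact h2
      exact ⟨χ b, op_eq_smul_of_maxGenEigenspace_top b (Nat.card B) hodd hpow (χ b) (hχ b hb)⟩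
  have hcore := Cfsg.Agent.Helper21.GT.core Γ hsol hO2 hirr hsc g hg m hm hgm ht
  have h1 := pPrimePCore_le_o22p2 ↥Γ hcore
  refine ⟨_, h1, ?_⟩
  rw [Subgroup.coe_subtype, Subgroup.coe_pow]

end Cfsg.Agent.G2L
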