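import Mathlib
import Cfsg.Agent.Lib.G2L.Defs

/-!
# S3801 / G2L, shared: the class `X` of finite groups with `X = O_{2,2',2}(X)` (helper24)

`HasSer X`: `X` has a series `1 ≤ A ≤ B ≤ X` of NORMAL subgroups of `X` with `A` a 2-group, `|B : A|` odd and
`|X : B|` a power of 2. For finite `X` this is equivalent to `o22p2 X = ⊤` (`ClassX.lean`); the series form makes
the closure properties (subgroups, products, extension by a normal 2-subgroup at the bottom) easy.
-/

set_option autoImplicit false

namespace Cfsg.Agent.G2L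

open Cfsg Subgroup

/-- `X` has a normal series `1 ≤ A ≤ B ≤ X` with `A` a `2`-group, `|B : A|` odd, `|X : B|` a power of `2`. -/
def HasSer (X : Type*) [Group X] : Prop :=
  ∃ A B : Subgroup X, A.Normal ∧ B.Normal ∧ A ≤ B ∧ IsPGroup 2 A ∧ Odd (A.relIndex B) ∧
    ∃ k : ℕ, B.index = 2 ^ k

/-- the canonical second term `O_{2,2'}(X)`: preimage of `O_{2'}(X / O_2(X))` -/
def o22p (X : Type*) [Group X] : Subgroup X :=
  (pPrimeCore 2 (X ⧸ pCore 2 X)).comap (QuotientGroup.mk' (pCore 2 X))

end Cfsg.Agent.G2L
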