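import Mathlib
import Cfsg.Agent.Lib.G2L.RedDefs
import Cfsg.Agent.Lib.Helper7.Cores
import Cfsg.Agent.Lib.Helper7.QPrimeCore

/-!
# S3801 / G2L-RED: `O_{2,2'}` and `O_{2,2',2}` are characteristic (helper24)
-/

set_option autoImplicit false

namespace Cfsg.Agent.G2L

open Cfsg Subgroup

/-- the full preimage of a characteristic subgroup of `A ⧸ X`, `X` characteristic, is characteristic. -/
theorem char_comap_mk {A : Type*} [Group A] (X : Subgroup A) [hXc : X.Characteristic]
    (B : Subgroup (A ⧸ X)) (hB : B.Characteristic) :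
    (B.comap (QuotientGroup.mk' X)).Characteristic := by
  rw [Subgroup.characteristic_iff_comap_le]
  intro ϕ x hx
  have he : X.map ϕ.toMonoidHom = X := Subgroup.characteristic_iff_map_eq.mp hXc ϕ
  have h1 : (QuotientGroup.congr X X ϕ he) (QuotientGroup.mk' X x) ∈ B := by
    have : (QuotientGroup.congr X X ϕ he) (QuotientGroup.mk' X x) = QuotientGroup.mk' X (ϕ x) := rfl
    rw [this]
    exact hx
  have h2 := Subgroup.characteristic_iff_comap_eq.mp hB (QuotientGroup.congr X X ϕ he)
  have h3 : QuotientGroup.mk' X x ∈ B.comap (QuotientGroup.congr X X ϕ he).toMonoidHom := h1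
  rw [h2] at h3
  exact h3

instance o22p_characteristic (X : Type*) [Group X] : (o22p X).Characteristic := by
  haveI : (pCore 2 X).Characteristic := Cfsg.Agent.Helper7.pCore_characteristic 2
  exact char_comap_mk (pCore 2 X) _ (Cfsg.Agent.Helper7.pPrimeCore_characteristic 2)

instance o22p2_characteristic (X : Type*) [Group X] : (o22p2 X).Characteristic := by
  haveI : (pCore 2 X).Characteristic := Cfsg.Agent.Helper7.pCore_characteristic 2
  exact char_comap_mk (pCore 2 X) _ (Cfsg.Agent.Helper7.pPrimePCore_characteristic 2)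

theorem o22p_normal (X : Type*) [Group X] : (o22p X).Normal := inferInstance

theorem o22p2_normal (X : Type*) [Group X] : (o22p2 X).Normal := inferInstance

/-- for `N ⊴ Γ`, the image in `Γ` of `O_2(N)` is normal in `Γ` -/
theorem pCore_map_subtype_normal {Γ : Type*} [Group Γ] (N : Subgroup Γ) [N.Normal] :
    ((pCore 2 ↥N).map N.subtype).Normal := by
  haveI : (pCore 2 ↥N).Characteristic := Cfsg.Agent.Helper7.pCore_characteristic 2
  infer_instance

theorem o22p_map_subtype_normal {Γ : Type*} [Group Γ] (N : Subgroup Γ) [N.Normal] :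
    ((o22p ↥N).map N.subtype).Normal := inferInstance

theorem o22p2_map_subtype_normal {Γ : Type*} [Group Γ] (N : Subgroup Γ) [N.Normal] :
    ((o22p2 ↥N).map N.subtype).Normal := inferInstance

end Cfsg.Agent.G2L
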