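import Mathlib
import Cfsg.Agent.Lib.G2L.RedDefs
import Cfsg.Agent.Lib.Helper10.Cores
import Cfsg.Agent.Lib.Helper14.Basic
import Cfsg.Agent.Lib.Helper22.PPrimeCore

/-!
# S3801 / G2L-RED piece X1G: a normal subgroup with a `2 / 2' / 2` series of normal subgroups lies in `O_{2,2',2}`
-/

set_option autoImplicit false

namespace Cfsg.Agent.G2L

open Cfsg Subgroup

/-- PIECE G2L-RED-X1G. `A ≤ B ≤ N` normal subgroups of the finite group `Γ`, `A` a 2-group, `|B : A|` odd,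
`|N : B|` a power of 2. Then `N ≤ O_{2,2',2}(Γ)`.

Paper proof. `R := pCore 2 Γ ⊇ A` (`Helper14.le_pCore`). `π := QuotientGroup.mk' R`. `B.map π` is normal in `Γ ⧸ R`
and `Nat.card (B.map π) = (B ⊓ R).relIndex B` divides `A.relIndex B` (`A ≤ B ⊓ R`; `Subgroup.relIndex_dvd_of_le_left`),
so it is odd, so `B.map π ≤ P := pPrimeCore 2 (Γ ⧸ R)` (`Helper22.le_pPrimeCore`). With `ψ := QuotientGroup.mk' P`,
`(N.map π).map ψ` is normal in `(Γ ⧸ R) ⧸ P` and is a quotient of `N / B` (its order divides `B.relIndex N = 2^k`: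
the composite `N → (N.map π).map ψ` is onto and kills `B`), so it is a 2-group, so it lies in `pCore 2 ((Γ ⧸ R) ⧸ P)`,
i.e. `N.map π ≤ pPrimePCore 2 (Γ ⧸ R)`, i.e. `N ≤ o22p2 Γ` (unfold `o22p2`, `pPrimePCore`, `Subgroup.mem_comap`). -/
theorem le_o22p2_of_ser {Γ : Type*} [Group Γ] [Finite Γ] (A B N : Subgroup Γ) (hA : A.Normal)
    (hB : B.Normal) (hN : N.Normal) (hAB : A ≤ B) (hBN : B ≤ N) (hA2 : IsPGroup 2 A)
    (hodd : Odd (A.relIndex B)) (h2 : ∃ k : ℕ, B.relIndex N = 2 ^ k) : N ≤ o22p2 Γ := by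
  -- Step 1: `A ≤ O_2(Γ)`
  have hAR : A ≤ pCore 2 Γ := Cfsg.Agent.Helper14.le_pCore hA hA2
  have hπs : Function.Surjective (QuotientGroup.mk' (pCore 2 Γ)) :=
    QuotientGroup.mk'_surjective _
  -- Step 2: the image of `B` in `Γ / O_2(Γ)` is a normal subgroup of odd order
  have hBn : (B.map (QuotientGroup.mk' (pCore 2 Γ))).Normal := Subgroup.Normal.map hB _ hπs
  have hBcard : Nat.card ↥(B.map (QuotientGroup.mk' (pCore 2 Γ))) ∣ A.relIndex B := by
    rw [← Subgroup.relIndex_ker, QuotientGroup.ker_mk']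
    exact Subgroup.relIndex_dvd_of_le_left B hAR
  have hBodd : (Nat.card ↥(B.map (QuotientGroup.mk' (pCore 2 Γ)))).Coprime 2 := by
    rw [Nat.coprime_two_right]
    obtain ⟨c, hc⟩ := hBcard
    rcases hodd with ⟨r, hr⟩
    rw [Nat.odd_iff]
    have h3 : (Nat.card ↥(B.map (QuotientGroup.mk' (pCore 2 Γ))) * c) % 2 = 1 := by
      rw [← hc, hr]; omega
    rcases Nat.mod_two_eq_zero_or_one (Nat.card ↥(B.map (QuotientGroup.mk' (pCore 2 Γ)))) with h4 | h4
    · rw [Nat.mul_mod, h4] at h3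
      simp at h3
    · exact h4
  have hBP : B.map (QuotientGroup.mk' (pCore 2 Γ)) ≤ pPrimeCore 2 (Γ ⧸ pCore 2 Γ) :=
    Cfsg.Agent.Helper22.le_pPrimeCore 2 _ hBn hBodd
  -- Step 3: the image of `N` in `(Γ / O_2) / O_{2'}` is a normal 2-subgroup
  have hψs : Function.Surjective (QuotientGroup.mk' (pPrimeCore 2 (Γ ⧸ pCore 2 Γ))) :=
    QuotientGroup.mk'_surjective _
  have hNn : ((N.map (QuotientGroup.mk' (pCore 2 Γ))).map
      (QuotientGroup.mk' (pPrimeCore 2 (Γ ⧸ pCore 2 Γ)))).Normal :=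
    Subgroup.Normal.map (Subgroup.Normal.map hN _ hπs) _ hψs
  have hBker : B ≤ ((QuotientGroup.mk' (pPrimeCore 2 (Γ ⧸ pCore 2 Γ))).comp
      (QuotientGroup.mk' (pCore 2 Γ))).ker := by
    intro b hb
    rw [MonoidHom.mem_ker, MonoidHom.comp_apply]
    have h1 : QuotientGroup.mk' (pCore 2 Γ) b ∈ pPrimeCore 2 (Γ ⧸ pCore 2 Γ) :=
      hBP (Subgroup.mem_map_of_mem _ hb)
    exact (QuotientGroup.eq_one_iff _).2 h1
  have hNcard : Nat.card ↥((N.map (QuotientGroup.mk' (pCore 2 Γ))).map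
      (QuotientGroup.mk' (pPrimeCore 2 (Γ ⧸ pCore 2 Γ)))) ∣ B.relIndex N := by
    rw [Subgroup.map_map, ← Subgroup.relIndex_ker]
    exact Subgroup.relIndex_dvd_of_le_left N hBker
  have hN2 : IsPGroup 2 ↥((N.map (QuotientGroup.mk' (pCore 2 Γ))).map
      (QuotientGroup.mk' (pPrimeCore 2 (Γ ⧸ pCore 2 Γ)))) := by
    obtain ⟨k, hk⟩ := h2
    rw [hk] at hNcard
    obtain ⟨j, -, hj⟩ := (Nat.dvd_prime_pow Nat.prime_two).1 hNcard
    exact IsPGroup.of_card hj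
  have hle := Cfsg.Agent.Helper14.le_pCore hNn hN2
  -- Step 4: unfold
  intro n hn
  unfold o22p2 pPrimePCore
  rw [Subgroup.mem_comap, Subgroup.mem_comap]
  exact hle (Subgroup.mem_map_of_mem _ (Subgroup.mem_map_of_mem _ hn))

end Cfsg.Agent.G2L
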