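import Mathlib
import Cfsg.Agent.Lib.G2L.RedDefs
import Cfsg.Agent.Lib.Helper10.Cores
import Cfsg.Agent.Lib.Helper14.Basic
import Cfsg.Agent.Lib.Helper22.PPrimeCore

/-!
# S3801 / G2L-RED piece X2: the canonical series `O_2 ≤ O_{2,2'} ≤ O_{2,2',2}` of a finite group
-/

set_option autoImplicit false

namespace Cfsg.Agent.G2L

open Cfsg Subgroup

/-- relative index of two preimages under a quotient map, the smaller one being the kernel -/
theorem g2l_redx2_relIndex {Y : Type*} [Group Y] (N : Subgroup Y) [N.Normal]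
    (H : Subgroup (Y ⧸ N)) :
    N.relIndex (H.comap (QuotientGroup.mk' N)) = Nat.card H := by
  have h1 : N = (⊥ : Subgroup (Y ⧸ N)).comap (QuotientGroup.mk' N) := by
    rw [MonoidHom.comap_bot, QuotientGroup.ker_mk']
  have h2 : ((⊥ : Subgroup (Y ⧸ N)).comap (QuotientGroup.mk' N)).relIndex
      (H.comap (QuotientGroup.mk' N)) = Nat.card H := by
    rw [Subgroup.relIndex_comap,
      Subgroup.map_comap_eq_self_of_surjective (QuotientGroup.mk'_surjective N),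
      Subgroup.relIndex_bot_left]
  rw [← h1] at h2
  exact h2

/-- PIECE G2L-RED-X2 (facts about the canonical series of a finite group `X`):
`pCore 2 X ≤ o22p X ≤ o22p2 X`, `(pCore 2 X).relIndex (o22p X) = Nat.card (pPrimeCore 2 (X ⧸ pCore 2 X))` is odd,
and `(o22p X).relIndex (o22p2 X)` is a power of 2 (it is the order of `pCore 2 ((X ⧸ R) ⧸ pPrimeCore 2 (X ⧸ R))`,
`R = pCore 2 X`). -/
theorem canonical_ser (X : Type*) [Group X] [Finite X] :
    pCore 2 X ≤ o22p X ∧ o22p X ≤ o22p2 X ∧ Odd ((pCore 2 X).relIndex (o22p X)) ∧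
      ∃ k : ℕ, (o22p X).relIndex (o22p2 X) = 2 ^ k := by
  haveI : Fact (Nat.Prime 2) := ⟨Nat.prime_two⟩
  have hKP : pPrimeCore 2 (X ⧸ pCore 2 X) ≤ pPrimePCore 2 (X ⧸ pCore 2 X) := by
    intro y hy
    show QuotientGroup.mk' (pPrimeCore 2 (X ⧸ pCore 2 X)) y ∈
      pCore 2 ((X ⧸ pCore 2 X) ⧸ pPrimeCore 2 (X ⧸ pCore 2 X))
    have h1 : QuotientGroup.mk' (pPrimeCore 2 (X ⧸ pCore 2 X)) y = 1 :=
      (QuotientGroup.eq_one_iff y).mpr hy
    rw [h1]
    exact Subgroup.one_mem _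
  refine ⟨?_, ?_, ?_, ?_⟩
  · intro x hx
    show QuotientGroup.mk' (pCore 2 X) x ∈ pPrimeCore 2 (X ⧸ pCore 2 X)
    have h1 : QuotientGroup.mk' (pCore 2 X) x = 1 := (QuotientGroup.eq_one_iff x).mpr hx
    rw [h1]
    exact Subgroup.one_mem _
  · exact Subgroup.comap_mono hKP
  · have h1 : (pCore 2 X).relIndex (o22p X) = Nat.card (pPrimeCore 2 (X ⧸ pCore 2 X)) :=
      g2l_redx2_relIndex (pCore 2 X) (pPrimeCore 2 (X ⧸ pCore 2 X))
    rw [h1]
    exact Nat.coprime_two_right.mp (Cfsg.Agent.Helper10.card_pPrimeCore_coprime 2)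
  · have h1 : (o22p X).relIndex (o22p2 X) =
        (pPrimeCore 2 (X ⧸ pCore 2 X)).relIndex (pPrimePCore 2 (X ⧸ pCore 2 X)) := by
      show ((pPrimeCore 2 (X ⧸ pCore 2 X)).comap (QuotientGroup.mk' (pCore 2 X))).relIndex
        ((pPrimePCore 2 (X ⧸ pCore 2 X)).comap (QuotientGroup.mk' (pCore 2 X))) = _
      rw [Subgroup.relIndex_comap,
        Subgroup.map_comap_eq_self_of_surjective (QuotientGroup.mk'_surjective (pCore 2 X))]
    have h2 : (pPrimeCore 2 (X ⧸ pCore 2 X)).relIndex (pPrimePCore 2 (X ⧸ pCore 2 X)) =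
        Nat.card (pCore 2 ((X ⧸ pCore 2 X) ⧸ pPrimeCore 2 (X ⧸ pCore 2 X))) :=
      g2l_redx2_relIndex (pPrimeCore 2 (X ⧸ pCore 2 X))
        (pCore 2 ((X ⧸ pCore 2 X) ⧸ pPrimeCore 2 (X ⧸ pCore 2 X)))
    rw [h1, h2]
    exact IsPGroup.iff_card.mp (Cfsg.Agent.Helper10.pCore_isPGroup 2)

end Cfsg.Agent.G2L
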