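import Mathlib
import Cfsg.Agent.Lib.G2L.RedDefs

/-!
# S3801 / G2L-RED piece X3H: `HasSer` pulls back along homomorphisms whose kernel is a 2-group
(in particular: passes to subgroups, isomorphic copies, extensions by a normal 2-subgroup at the bottom)
-/

set_option autoImplicit false

namespace Cfsg.Agent.G2L

open Cfsg Subgroup

/-- PIECE G2L-RED-X3H. `f : N →* P` with `f.ker` a 2-group, `HasSer P` ⇒ `HasSer N`.
Take `A' := A.comap f`, `B' := B.comap f` (normal: `Subgroup.Normal.comap`; `A' ≤ B'`: `Subgroup.comap_mono`).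
`IsPGroup 2 A'`: `IsPGroup.comap_of_ker_isPGroup`.
`A'.relIndex B' = A.relIndex (B'.map f)` (`Subgroup.relIndex_comap`), `B'.map f = B ⊓ f.range ≤ B`
(`Subgroup.map_comap_eq`), and since `A` is normal this divides `A.relIndex B` (work inside `↥B`:
`Subgroup.relIndex_dvd_index_of_normal` for `A.subgroupOf B` [normal in `↥B`] and `(B ⊓ f.range).subgroupOf B`,
`Subgroup.relIndex_subgroupOf`), and a divisor of an odd number is odd (`Odd.of_dvd_nat`).
`B'.index = B.relIndex f.range` (`Subgroup.index_comap`) divides `B.index = 2^k`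
(`Subgroup.relIndex_dvd_index_of_normal`), so is a power of 2 (`(Nat.dvd_prime_pow Nat.prime_two).1`). -/
theorem hasSer_of_hom {N P : Type*} [Group N] [Group P] [Finite N] [Finite P] (f : N →* P)
    (hker : IsPGroup 2 f.ker) (h : HasSer P) : HasSer N := by
  obtain ⟨A, B, hA, hB, hAB, hA2, hodd, k, hk⟩ := h
  refine ⟨A.comap f, B.comap f, hA.comap f, hB.comap f, Subgroup.comap_mono hAB,
    hA2.comap_of_ker_isPGroup f hker, ?_, ?_⟩
  · rw [Subgroup.relIndex_comap, Subgroup.map_comap_eq]
    have hle : (f.range ⊓ B) ⊔ A ≤ B := sup_le inf_le_right hAB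
    have h1 : A.relIndex ((f.range ⊓ B) ⊔ A) * ((f.range ⊓ B) ⊔ A).relIndex B = A.relIndex B :=
      Subgroup.relIndex_mul_relIndex A _ B le_sup_right hle
    have h2 : A.relIndex ((f.range ⊓ B) ⊔ A) = A.relIndex (f.range ⊓ B) :=
      Subgroup.relIndex_sup_right (f.range ⊓ B) A
    rw [h2] at h1
    exact Odd.of_dvd_nat hodd (Dvd.intro _ h1)
  · have hdvd : (B.comap f).index ∣ 2 ^ k := by
      rw [Subgroup.index_comap, ← hk]
      exact Subgroup.relIndex_dvd_index_of_normal B f.range
    obtain ⟨j, -, hj⟩ := (Nat.dvd_prime_pow Nat.prime_two).1 hdvd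
    exact ⟨j, hj⟩

end Cfsg.Agent.G2L
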