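import Mathlib
import Cfsg.Agent.Lib.G2L.RedDefs
import Cfsg.Agent.Lib.G2L.RedChar
import Cfsg.Agent.Lib.G2L.RedX1G
import Cfsg.Agent.Lib.G2L.RedX2
import Cfsg.Agent.Lib.G2L.RedX3H

/-!
# S3801 / G2L-RED: `O_{2,2',2}(Γ)` is the largest normal `HasSer`-subgroup of `Γ` (helper24)
-/

set_option autoImplicit false

namespace Cfsg.Agent.G2L

open Cfsg Subgroup

/-- `HasSer X` ⇒ `O_{2,2',2}(X) = X`. -/
theorem o22p2_eq_top_of_hasSer {X : Type*} [Group X] [Finite X] (h : HasSer X) : o22p2 X = ⊤ := by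
  obtain ⟨A, B, hA, hB, hAB, hA2, hodd, k, hk⟩ := h
  rw [eq_top_iff]
  refine le_o22p2_of_ser A B ⊤ hA hB inferInstance hAB le_top hA2 hodd ⟨k, ?_⟩
  rw [Subgroup.relIndex_top_right, hk]

/-- `O_{2,2',2}(X) = X` ⇒ `HasSer X` (canonical series). -/
theorem hasSer_of_o22p2_eq_top {X : Type*} [Group X] [Finite X] (h : o22p2 X = ⊤) : HasSer X := by
  obtain ⟨h1, h2, h3, k, hk⟩ := canonical_ser X
  refine ⟨pCore 2 X, o22p X, Cfsg.Agent.Helper10.pCore_normal 2, o22p_normal X, h1,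
    Cfsg.Agent.Helper14.pCore_isPGroup 2 X, h3, k, ?_⟩
  rw [h, Subgroup.relIndex_top_right] at hk
  exact hk

theorem hasSer_iff {X : Type*} [Group X] [Finite X] : HasSer X ↔ o22p2 X = ⊤ :=
  ⟨o22p2_eq_top_of_hasSer, hasSer_of_o22p2_eq_top⟩

/-- `O_{2,2',2}(X)` is a `HasSer`-group. -/
theorem hasSer_o22p2 (X : Type*) [Group X] [Finite X] : HasSer ↥(o22p2 X) := by
  obtain ⟨h1, h2, h3, k, hk⟩ := canonical_ser X
  haveI := Cfsg.Agent.Helper10.pCore_normal (G := X) 2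
  haveI := o22p_normal X
  refine ⟨(pCore 2 X).subgroupOf (o22p2 X), (o22p X).subgroupOf (o22p2 X), inferInstance,
    inferInstance, ?_, ?_, ?_, k, ?_⟩
  · intro x hx
    exact h1 hx
  · exact (Cfsg.Agent.Helper14.pCore_isPGroup 2 X).comap_of_injective (o22p2 X).subtype
      (o22p2 X).subtype_injective
  · rw [Subgroup.relIndex_subgroupOf h2]
    exact h3
  · exact hk

/-- a normal `HasSer`-subgroup lies in `O_{2,2',2}`. -/
theorem le_o22p2_of_normal {Γ : Type*} [Group Γ] [Finite Γ] (N : Subgroup Γ) [hN : N.Normal]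
    (h : HasSer ↥N) : N ≤ o22p2 Γ := by
  have htop : o22p2 ↥N = ⊤ := o22p2_eq_top_of_hasSer h
  obtain ⟨h1, h2, h3, k, hk⟩ := canonical_ser ↥N
  rw [htop, Subgroup.relIndex_top_right] at hk
  refine le_o22p2_of_ser ((pCore 2 ↥N).map N.subtype) ((o22p ↥N).map N.subtype) N
    (pCore_map_subtype_normal N) (o22p_map_subtype_normal N) hN (Subgroup.map_mono h1) ?_
    ((Cfsg.Agent.Helper14.pCore_isPGroup 2 ↥N).map N.subtype) ?_ ⟨k, ?_⟩
  · rintro _ ⟨x, -, rfl⟩
    exact x.2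
  · rw [Subgroup.relIndex_map_map_of_injective _ _ N.subtype_injective]
    exact h3
  · show (((o22p ↥N).map N.subtype).comap N.subtype).index = 2 ^ k
    rw [Subgroup.comap_map_eq_self_of_injective N.subtype_injective]
    exact hk

theorem o22p2_map_equiv_le {G G' : Type*} [Group G] [Group G'] [Finite G] [Finite G']
    (e : G ≃* G') : (o22p2 G).map e.toMonoidHom ≤ o22p2 G' := by
  have : ((o22p2 G).map e.toMonoidHom).Normal :=
    (o22p2_normal G).map e.toMonoidHom e.surjective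
  apply le_o22p2_of_normal
  refine hasSer_of_hom ((o22p2 G).equivMapOfInjective e.toMonoidHom e.injective).symm.toMonoidHom
    ?_ (hasSer_o22p2 G)
  have : ((o22p2 G).equivMapOfInjective e.toMonoidHom e.injective).symm.toMonoidHom.ker = ⊥ :=
    (MonoidHom.ker_eq_bot_iff _).2 (MulEquiv.injective _)
  rw [this]
  exact IsPGroup.of_bot

/-- `O_{2,2',2}` commutes with isomorphisms. -/
theorem o22p2_map_equiv {G G' : Type*} [Group G] [Group G'] [Finite G] [Finite G'] (e : G ≃* G') :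
    (o22p2 G).map e.toMonoidHom = o22p2 G' := by
  apply le_antisymm (o22p2_map_equiv_le e)
  intro z hz
  have h2 : e.symm z ∈ o22p2 G := o22p2_map_equiv_le e.symm ⟨z, hz, rfl⟩
  exact ⟨e.symm z, h2, by simp⟩

/-- `O_{2,2',2}` of a normal subgroup lies in `O_{2,2',2}`. -/
theorem o22p2_map_subtype_le {Γ : Type*} [Group Γ] [Finite Γ] (M : Subgroup Γ) [M.Normal] :
    (o22p2 ↥M).map M.subtype ≤ o22p2 Γ := by
  have := o22p2_map_subtype_normal M
  apply le_o22p2_of_normal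
  refine hasSer_of_hom
    ((o22p2 ↥M).equivMapOfInjective M.subtype M.subtype_injective).symm.toMonoidHom ?_
    (hasSer_o22p2 ↥M)
  have : ((o22p2 ↥M).equivMapOfInjective M.subtype M.subtype_injective).symm.toMonoidHom.ker = ⊥ :=
    (MonoidHom.ker_eq_bot_iff _).2 (MulEquiv.injective _)
  rw [this]
  exact IsPGroup.of_bot

/-- `O_{2,2',2}(Γ) ∩ M ≤ O_{2,2',2}(M)` for ANY subgroup `M`. -/
theorem o22p2_subgroupOf_le {Γ : Type*} [Group Γ] [Finite Γ] (M : Subgroup Γ) :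
    (o22p2 Γ).subgroupOf M ≤ o22p2 ↥M := by
  have := o22p2_normal Γ
  apply le_o22p2_of_normal
  let f : ↥((o22p2 Γ).subgroupOf M) →* ↥(o22p2 Γ) :=
    { toFun := fun x => ⟨(x.1 : Γ), x.2⟩
      map_one' := rfl
      map_mul' := fun _ _ => rfl }
  refine hasSer_of_hom f ?_ (hasSer_o22p2 Γ)
  have : f.ker = ⊥ := by
    rw [MonoidHom.ker_eq_bot_iff]
    intro x y hxy
    have h3 : (f x).1 = (f y).1 := congrArg Subtype.val hxy
    exact Subtype.ext (Subtype.ext h3)
  rw [this]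
  exact IsPGroup.of_bot

end Cfsg.Agent.G2L
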