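import Mathlib
import Cfsg.Agent.Lib.G2L.RedDefs

/-!
# S3801 / G2L-RED piece X4: `HasSer` passes to binary products
-/

set_option autoImplicit false

namespace Cfsg.Agent.G2L

open Cfsg Subgroup

/-- a product of `2`-subgroups is a `2`-subgroup -/
theorem g2lredx4_isPGroup_prod {X Y : Type*} [Group X] [Group Y] (A₁ : Subgroup X)
    (A₂ : Subgroup Y) (h₁ : IsPGroup 2 A₁) (h₂ : IsPGroup 2 A₂) : IsPGroup 2 (A₁.prod A₂) := by
  rintro ⟨⟨x, y⟩, hxy⟩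
  obtain ⟨hx, hy⟩ := Subgroup.mem_prod.mp hxy
  obtain ⟨k, hk⟩ := h₁ ⟨x, hx⟩
  obtain ⟨l, hl⟩ := h₂ ⟨y, hy⟩
  have hk' : x ^ 2 ^ k = 1 := by
    have := congrArg Subtype.val hk
    simpa using this
  have hl' : y ^ 2 ^ l = 1 := by
    have := congrArg Subtype.val hl
    simpa using this
  refine ⟨k + l, ?_⟩
  apply Subtype.ext
  show ((x, y) : X × Y) ^ 2 ^ (k + l) = 1
  rw [Prod.pow_mk, pow_add, pow_mul, hk', one_pow, mul_comm, pow_mul, hl', one_pow]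
  rfl

/-- PIECE G2L-RED-X4. `HasSer X`, `HasSer Y` ⇒ `HasSer (X × Y)`: take `A₁.prod A₂`, `B₁.prod B₂`
(`Subgroup.prod_normal`; `Subgroup.prod_mono`; `IsPGroup 2 (A₁.prod A₂)` elementwise: `(x,y)^(2^(a+b)) = 1`, or by
orders `Subgroup.card_prod`? / `IsPGroup.iff_card`); `Subgroup.index_prod`; for the `relIndex` use
`Subgroup.relIndex_mul_index`/`Subgroup.relIndex_mul_relIndex` or cardinalities
(`Subgroup.card_mul_relIndex`? : `|A| * A.relIndex B = |B|` for `A ≤ B`, `|B₁ × B₂| = |B₁| * |B₂|`);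
a product of odd numbers is odd, `2^k * 2^l = 2^(k+l)`. -/
theorem hasSer_prod {X Y : Type*} [Group X] [Group Y] [Finite X] [Finite Y] (hX : HasSer X)
    (hY : HasSer Y) : HasSer (X × Y) := by
  obtain ⟨A₁, B₁, hA₁n, hB₁n, hAB₁, hA₁p, hodd₁, k₁, hk₁⟩ := hX
  obtain ⟨A₂, B₂, hA₂n, hB₂n, hAB₂, hA₂p, hodd₂, k₂, hk₂⟩ := hY
  have hle : A₁.prod A₂ ≤ B₁.prod B₂ := Subgroup.prod_mono hAB₁ hAB₂
  refine ⟨A₁.prod A₂, B₁.prod B₂, Subgroup.prod_normal A₁ A₂, Subgroup.prod_normal B₁ B₂, hle,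
    g2lredx4_isPGroup_prod A₁ A₂ hA₁p hA₂p, ?_, k₁ + k₂, ?_⟩
  · have h1 := Subgroup.relIndex_mul_index hle
    rw [Subgroup.index_prod, Subgroup.index_prod, ← Subgroup.relIndex_mul_index hAB₁,
      ← Subgroup.relIndex_mul_index hAB₂] at h1
    have hpos : 0 < B₁.index * B₂.index :=
      Nat.mul_pos (Nat.pos_of_ne_zero Subgroup.index_ne_zero_of_finite)
        (Nat.pos_of_ne_zero Subgroup.index_ne_zero_of_finite)
    have h2 : (A₁.prod A₂).relIndex (B₁.prod B₂) * (B₁.index * B₂.index) =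
        (A₁.relIndex B₁ * A₂.relIndex B₂) * (B₁.index * B₂.index) := by
      rw [h1]
      ring
    rw [Nat.eq_of_mul_eq_mul_right hpos h2]
    exact hodd₁.mul hodd₂
  · rw [Subgroup.index_prod, hk₁, hk₂, pow_add]

end Cfsg.Agent.G2L
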