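import Mathlib
import Cfsg.Agent.Lib.G2L.RedDefs
import Cfsg.Agent.Lib.G2L.RedX3H
import Cfsg.Agent.Lib.G2L.RedX4

/-!
# S3801 / G2L-RED piece X4P: `HasSer` passes to finite products `Π i, X i`
-/

set_option autoImplicit false

namespace Cfsg.Agent.G2L

open Cfsg Subgroup

universe u v

/-- transport of `HasSer` along an injective homomorphism -/
theorem g2lx4p_of_injective {N P : Type*} [Group N] [Group P] [Finite N] [Finite P] (f : N →* P)
    (hf : Function.Injective f) (h : HasSer P) : HasSer N := by
  apply hasSer_of_hom f _ h
  rw [(MonoidHom.ker_eq_bot_iff f).2 hf]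
  exact IsPGroup.of_bot

/-- a group with one element is `HasSer` -/
theorem g2lx4p_of_subsingleton (Y : Type*) [Group Y] [Subsingleton Y] : HasSer Y := by
  refine ⟨⊤, ⊤, inferInstance, inferInstance, le_rfl, ?_, ?_, 0, ?_⟩
  · intro g
    exact ⟨0, Subsingleton.elim _ _⟩
  · rw [Subgroup.relIndex_self]
    exact odd_one
  · rw [Subgroup.index_top, pow_zero]

/-- the induction behind `hasSer_pi` -/
theorem g2lx4p_aux (ι : Type u) [Finite ι] : Finite ι → ∀ (X : ι → Type v) [∀ i, Group (X i)]
    [∀ i, Finite (X i)], (∀ i, HasSer (X i)) → HasSer (∀ i, X i) := by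
  refine Finite.induction_empty_option (P := fun ι : Type u => Finite ι →
    ∀ (X : ι → Type v) [∀ i, Group (X i)] [∀ i, Finite (X i)],
      (∀ i, HasSer (X i)) → HasSer (∀ i, X i)) ?_ ?_ ?_ ι
  · -- transport along an equivalence
    intro α β e hα hβ X _ _ h
    have hαf : Finite α := Finite.of_equiv β e.symm
    have h1 : HasSer (∀ a, X (e a)) := hα hαf (fun a => X (e a)) (fun a => h (e a))
    let f : (∀ b, X b) →* (∀ a, X (e a)) :=
      { toFun := fun g a => g (e a), map_one' := rfl, map_mul' := fun _ _ => rfl }
    have hf : Function.Injective f := by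
      intro g g' hgg'
      funext b
      have h2 : g (e (e.symm b)) = g' (e (e.symm b)) := congrFun hgg' (e.symm b)
      have key : ∀ (b' : β), b' = b → (g b' = g' b' → g b = g' b) := by
        intro b' hb
        subst hb
        exact id
      exact key _ (e.apply_symm_apply b) h2
    exact g2lx4p_of_injective f hf h1
  · -- the empty family
    intro _ X _ _ _
    exact g2lx4p_of_subsingleton _
  · -- one more factor
    intro α _ hα _ X _ _ h
    have h1 : HasSer (∀ a, X (some a)) :=
      hα inferInstance (fun a => X (some a)) (fun a => h (some a))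
    have h2 : HasSer (X none × (∀ a, X (some a))) := hasSer_prod (h none) h1
    let f : (∀ o, X o) →* X none × (∀ a, X (some a)) :=
      { toFun := fun g => (g none, fun a => g (some a)), map_one' := rfl,
        map_mul' := fun _ _ => rfl }
    have hf : Function.Injective f := by
      intro g g' hgg'
      funext o
      cases o with
      | none =>
        have h3 : g none = g' none := congrArg Prod.fst hgg'
        exact h3
      | some a =>
        have h3 : g (some a) = g' (some a) := congrFun (congrArg Prod.snd hgg') a
        exact h3
    exact g2lx4p_of_injective f hf h2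

/-- PIECE G2L-RED-X4P. Finite product of `HasSer` groups is `HasSer`.
Suggested: `Finite.induction_empty_option` on `ι` (generalize over the family `X`), using `hasSer_prod` (X4) for the
`Option` step (`Π i : Option α, X i ≃* X none × Π a, X (some a)`, e.g. via the hom `f ↦ (f none, fun a => f (some a))`
which is injective, + `hasSer_of_hom` with trivial kernel), `hasSer_of_hom` for transport along the equivalence step
(`(Π b, X b) →* Π a, X (e a)`, `f ↦ f ∘ e`, injective as `e` is onto), and the trivial group for `PEmpty`
(`A = B = ⊤`, `relIndex_self`, `index_top = 2^0`).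
ALTERNATIVELY directly with `A := Subgroup.pi Set.univ A_i`, `B := Subgroup.pi Set.univ B_i` if you find the index
lemmas. -/
theorem hasSer_pi {ι : Type*} [Finite ι] {X : ι → Type*} [∀ i, Group (X i)] [∀ i, Finite (X i)]
    (h : ∀ i, HasSer (X i)) : HasSer (∀ i, X i) :=
  g2lx4p_aux ι inferInstance X h

end Cfsg.Agent.G2L
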