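import Mathlib
import Cfsg.Agent.Lib.G2L.RedDefs
import Cfsg.Agent.Lib.G2L.RedX6
import Cfsg.Agent.Lib.G2L.RedX4
import Cfsg.Agent.Lib.G2L.RedX4P

/-!
# S3801 / G2L-RED: subdirect products and `O_{2,2',2}` (helper24)
-/

set_option autoImplicit false

namespace Cfsg.Agent.G2L

open Cfsg Subgroup

/-- A finite group `N` with homomorphisms `f i : N →* Y i` (`i` in a finite type) landing in `HasSer`-subgroups
`S i`, whose common kernel is a 2-group, is a `HasSer`-group. -/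
theorem hasSer_of_pi {ι : Type*} [Finite ι] {N : Type*} [Group N] [Finite N] {Y : ι → Type*}
    [∀ i, Group (Y i)] (f : ∀ i, N →* Y i) (S : ∀ i, Subgroup (Y i)) [∀ i, Finite ↥(S i)]
    (hS : ∀ i, HasSer ↥(S i)) (hf : ∀ i x, f i x ∈ S i)
    (hK : IsPGroup 2 ↥(⨅ i, (f i).ker)) : HasSer N := by
  let F : N →* (∀ i, ↥(S i)) := MonoidHom.pi (fun i => (f i).codRestrict (S i) (hf i))
  refine hasSer_of_hom F ?_ (hasSer_pi hS)
  intro x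
  have hx : (x : N) ∈ ⨅ i, (f i).ker := by
    rw [Subgroup.mem_iInf]
    intro i
    rw [MonoidHom.mem_ker]
    have h1 : F x = 1 := x.2
    have h2 : (F x i : Y i) = ((1 : ∀ i, ↥(S i)) i : Y i) := by rw [h1]
    exact h2
  obtain ⟨k, hk⟩ := hK ⟨x, hx⟩
  refine ⟨k, ?_⟩
  have h3 : ((x : N)) ^ 2 ^ k = 1 := by
    have := congrArg Subtype.val hk
    simpa using this
  exact Subtype.ext (by simpa using h3)

/-- binary version of `hasSer_of_pi` -/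
theorem hasSer_of_two {N : Type*} [Group N] [Finite N] {Y₁ Y₂ : Type*} [Group Y₁] [Group Y₂]
    (f₁ : N →* Y₁) (f₂ : N →* Y₂) (S₁ : Subgroup Y₁) (S₂ : Subgroup Y₂) [Finite ↥S₁] [Finite ↥S₂]
    (hS₁ : HasSer ↥S₁) (hS₂ : HasSer ↥S₂) (hf₁ : ∀ x, f₁ x ∈ S₁) (hf₂ : ∀ x, f₂ x ∈ S₂)
    (hK : IsPGroup 2 ↥(f₁.ker ⊓ f₂.ker)) : HasSer N := by
  let F : N →* ↥S₁ × ↥S₂ := MonoidHom.prod (f₁.codRestrict S₁ hf₁) (f₂.codRestrict S₂ hf₂)
  refine hasSer_of_hom F ?_ (hasSer_prod hS₁ hS₂)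
  intro x
  have hx : (x : N) ∈ f₁.ker ⊓ f₂.ker := by
    have h1 : F x = 1 := x.2
    rw [Subgroup.mem_inf, MonoidHom.mem_ker, MonoidHom.mem_ker]
    constructor
    · have h2 : ((F x).1 : Y₁) = ((1 : ↥S₁ × ↥S₂).1 : Y₁) := by rw [h1]
      exact h2
    · have h2 : ((F x).2 : Y₂) = ((1 : ↥S₁ × ↥S₂).2 : Y₂) := by rw [h1]
      exact h2
  obtain ⟨k, hk⟩ := hK ⟨x, hx⟩
  refine ⟨k, ?_⟩
  have h3 : ((x : N)) ^ 2 ^ k = 1 := by
    have := congrArg Subtype.val hk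
    simpa using this
  exact Subtype.ext (by simpa using h3)

/-- SUBDIRECT LEMMA (family version): if the common kernel of `φ i : Γ →* Y i` is a 2-group, then an element whose
images all lie in `O_{2,2',2}(Y i)` lies in `O_{2,2',2}(Γ)`. -/
theorem subdirect_pi {ι : Type*} [Finite ι] {Γ : Type*} [Group Γ] [Finite Γ] {Y : ι → Type*}
    [∀ i, Group (Y i)] [∀ i, Finite (Y i)] (φ : ∀ i, Γ →* Y i)
    (hK : IsPGroup 2 ↥(⨅ i, (φ i).ker)) : (⨅ i, (o22p2 (Y i)).comap (φ i)) ≤ o22p2 Γ := by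
  have hn : ∀ i, ((o22p2 (Y i)).comap (φ i)).Normal := fun i => (o22p2_normal (Y i)).comap (φ i)
  have : (⨅ i, (o22p2 (Y i)).comap (φ i)).Normal := Subgroup.normal_iInf_normal hn
  apply le_o22p2_of_normal
  refine hasSer_of_pi (fun i => (φ i).comp (⨅ i, (o22p2 (Y i)).comap (φ i)).subtype)
    (fun i => o22p2 (Y i)) (fun i => hasSer_o22p2 (Y i)) ?_ ?_
  · intro i x
    have := x.2
    rw [Subgroup.mem_iInf] at this
    exact this i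
  · intro x
    have hx : ((x : ↥(⨅ i, (o22p2 (Y i)).comap (φ i))) : Γ) ∈ ⨅ i, (φ i).ker := by
      rw [Subgroup.mem_iInf]
      intro i
      have h1 := x.2
      rw [Subgroup.mem_iInf] at h1
      exact h1 i
    obtain ⟨k, hk⟩ := hK ⟨_, hx⟩
    refine ⟨k, ?_⟩
    have h3 : (((x : ↥(⨅ i, (o22p2 (Y i)).comap (φ i))) : Γ)) ^ 2 ^ k = 1 := by
      have := congrArg Subtype.val hk
      simpa using this
    exact Subtype.ext (Subtype.ext (by simpa using h3))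

/-- SUBDIRECT LEMMA (binary version). -/
theorem subdirect_two {Γ Γ₁ Γ₂ : Type*} [Group Γ] [Group Γ₁] [Group Γ₂] [Finite Γ] [Finite Γ₁]
    [Finite Γ₂] (φ₁ : Γ →* Γ₁) (φ₂ : Γ →* Γ₂) (hK : IsPGroup 2 ↥(φ₁.ker ⊓ φ₂.ker)) :
    (o22p2 Γ₁).comap φ₁ ⊓ (o22p2 Γ₂).comap φ₂ ≤ o22p2 Γ := by
  have h1 : ((o22p2 Γ₁).comap φ₁).Normal := (o22p2_normal Γ₁).comap φ₁
  have h2 : ((o22p2 Γ₂).comap φ₂).Normal := (o22p2_normal Γ₂).comap φ₂
  have : ((o22p2 Γ₁).comap φ₁ ⊓ (o22p2 Γ₂).comap φ₂).Normal := inferInstance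
  apply le_o22p2_of_normal
  refine hasSer_of_two (φ₁.comp ((o22p2 Γ₁).comap φ₁ ⊓ (o22p2 Γ₂).comap φ₂).subtype)
    (φ₂.comp ((o22p2 Γ₁).comap φ₁ ⊓ (o22p2 Γ₂).comap φ₂).subtype) (o22p2 Γ₁) (o22p2 Γ₂)
    (hasSer_o22p2 Γ₁) (hasSer_o22p2 Γ₂) (fun x => x.2.1) (fun x => x.2.2) ?_
  intro x
  have hx : ((x : ↥((o22p2 Γ₁).comap φ₁ ⊓ (o22p2 Γ₂).comap φ₂)) : Γ) ∈ φ₁.ker ⊓ φ₂.ker :=
    ⟨x.2.1, x.2.2⟩
  obtain ⟨k, hk⟩ := hK ⟨_, hx⟩
  refine ⟨k, ?_⟩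
  have h3 : (((x : ↥((o22p2 Γ₁).comap φ₁ ⊓ (o22p2 Γ₂).comap φ₂)) : Γ)) ^ 2 ^ k = 1 := by
    have := congrArg Subtype.val hk
    simpa using this
  exact Subtype.ext (Subtype.ext (by simpa using h3))

end Cfsg.Agent.G2L
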