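import Mathlib
import Cfsg.Agent.Lib.G2L.RedDefs
import Cfsg.Agent.Lib.G2L.RedChar
import Cfsg.Agent.Lib.G2L.RedX6
import Cfsg.Agent.Lib.G2L.RedX8

/-!
# S3801 / G2L, shared interface: the class of groups `X = O_{2,2',2}(X)` (helper24)

Import this file to get (all in namespace `Cfsg.Agent.G2L`):

* `HasSer X` (`RedDefs`): the class predicate (normal series 2-group / odd / 2-power index);
  `hasSer_iff : HasSer X ↔ o22p2 X = ⊤` (finite `X`).
* `o22p X` = `O_{2,2'}(X)`; `canonical_ser`; instances `o22p_characteristic`, `o22p2_characteristic`;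
  `o22p_normal`, `o22p2_normal`.
* `hasSer_o22p2 X : HasSer ↥(o22p2 X)`.
* `hasSer_of_hom f (hker : IsPGroup 2 f.ker) (h : HasSer P) : HasSer N` for `f : N →* P` (subgroups, isomorphic copies,
  extensions by a normal 2-subgroup at the bottom).
* `hasSer_prod`, `hasSer_pi`; `hasSer_of_two`, `hasSer_of_pi` (subdirect products, kernel a 2-group).
* `le_o22p2_of_normal N (h : HasSer ↥N) : N ≤ o22p2 Γ` for `N ⊴ Γ`; `le_o22p2_of_ser`.
* `o22p2_map_equiv e : (o22p2 G).map e.toMonoidHom = o22p2 G'`; `o22p2_map_subtype_le M : (o22p2 ↥M).map M.subtype ≤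
  o22p2 Γ` for `M ⊴ Γ`; `o22p2_subgroupOf_le M : (o22p2 Γ).subgroupOf M ≤ o22p2 ↥M` for any `M ≤ Γ`.
* `subdirect_two`, `subdirect_pi`.
-/
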