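import Mathlib
import Cfsg.Agent.Lib.G2L.Defs

/-!
# S3801 / G2L-RED: linear algebra of the reducible step (helper24)
tightness passes to the restriction and to the quotient; the kernel of `Γ → GL(U) × GL(V/U)` has exponent ≤ 2 in char 2.
-/

set_option autoImplicit false

namespace Cfsg.Agent.G2L

open Cfsg Subgroup Module Cfsg.Agent.Helper4.ThB

variable {F : Type*} [Field F] {V : Type*} [AddCommGroup V] [Module F V]

theorem tight_res (Γ : Subgroup (V ≃ₗ[F] V)) (U : Submodule F V)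
    (h : Cfsg.Agent.Helper4.ThB.Inv (Γ : Set (V ≃ₗ[F] V)) U) (g : Γ) (r : ℕ)
    (hg : (op g.1 - 1) ^ r = 0) : (op (resHom Γ U h g) - 1) ^ r = 0 := by
  apply LinearMap.ext
  intro u
  apply Subtype.ext
  rw [restrict_pow_apply (op g.1 - 1) (op (resHom Γ U h g) - 1)
    (fun u => restrict_sub_one (op g.1) (op (resHom Γ U h g)) (fun u => op_resHom_apply Γ U h g u) u)
    r u, hg]
  rfl

theorem tight_quot (Γ : Subgroup (V ≃ₗ[F] V)) (U : Submodule F V)
    (h : Cfsg.Agent.Helper4.ThB.Inv (Γ : Set (V ≃ₗ[F] V)) U) (g : Γ) (r : ℕ)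
    (hg : (op g.1 - 1) ^ r = 0) : (op (quotHom Γ U h g) - 1) ^ r = 0 := by
  apply LinearMap.ext
  intro x
  induction x using Submodule.Quotient.induction_on with
  | _ v =>
    rw [quot_pow_apply (op g.1 - 1) (op (quotHom Γ U h g) - 1)
      (fun v => quot_sub_one (op g.1) (op (quotHom Γ U h g)) (fun v => op_quotHom_mk Γ U h g v) v)
      r v, hg]
    rfl

/-- an element acting trivially on `U` and on `V ⧸ U` squares to 1 in characteristic 2 -/
theorem sq_eq_one_of_res_quot [CharP F 2] (Γ : Subgroup (V ≃ₗ[F] V)) (U : Submodule F V)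
    (h : Cfsg.Agent.Helper4.ThB.Inv (Γ : Set (V ≃ₗ[F] V)) U) (g : Γ)
    (h1 : resHom Γ U h g = 1) (h2 : quotHom Γ U h g = 1) : g ^ 2 = 1 := by
  -- `g v - v ∈ U` for all `v`, `g u = u` for `u ∈ U`
  have hU : ∀ u ∈ U, g.1 u = u := by
    intro u hu
    have := resHom_apply Γ U h g ⟨u, hu⟩
    rw [h1] at this
    exact this.symm
  have hQ : ∀ v : V, g.1 v - v ∈ U := by
    intro v
    have := quotHom_mk Γ U h g v
    rw [h2] at this
    have h3 : (Submodule.Quotient.mk v : V ⧸ U) = Submodule.Quotient.mk (g.1 v) := this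
    rw [eq_comm, Submodule.Quotient.eq] at h3
    exact h3
  apply Subtype.ext
  apply LinearEquiv.ext
  intro v
  show (g.1 ^ 2) v = v
  rw [pow_two]
  show g.1 (g.1 v) = v
  have h4 : g.1 (g.1 v - v) = g.1 v - v := hU _ (hQ v)
  rw [map_sub] at h4
  -- g(g v) = g v + g v - v = 2 g v - v = -v = v in char 2
  have h5 : g.1 (g.1 v) = g.1 v + g.1 v - v := by
    have h8 : g.1 (g.1 v) = (g.1 (g.1 v) - g.1 v) + g.1 v := by abel
    rw [h8, h4]; abel
  rw [h5]
  have h6 : g.1 v + g.1 v = 0 := by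
    rw [← two_smul F (g.1 v)]
    have : (2 : F) = 0 := CharTwo.two_eq_zero
    rw [this, zero_smul]
  rw [h6, zero_sub]
  have h7 : v + v = 0 := by
    rw [← two_smul F v]
    have : (2 : F) = 0 := CharTwo.two_eq_zero
    rw [this, zero_smul]
  exact (eq_neg_of_add_eq_zero_left h7).symm

end Cfsg.Agent.G2L
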