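import Mathlib
import Cfsg.Agent.Lib.G2L.Defs
import Cfsg.Agent.Lib.G2L.RedLin
import Cfsg.Agent.Lib.G2L.ClassX

/-!
# S3801 / G2L, BLOCK RED (reducible step): if `Γ` leaves a proper nonzero subspace `U` invariant and
(T) holds in smaller dimension, then (T) holds for `Γ`.
Proof: restrict to `U` and to `V ⧸ U`; the kernel of `Γ → GL(U) × GL(V/U)` is a normal 2-subgroup;
subdirect lemma for `O_{2,2',2}`.
-/

set_option autoImplicit false

namespace Cfsg.Agent.G2L

open Cfsg Subgroup Module Cfsg.Agent.Helper4.ThB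

universe u v

theorem step_reducible {F : Type u} [Field F] [CharP F 2] {V : Type v} [AddCommGroup V] [Module F V]
    [FiniteDimensional F V]
    (ih : ∀ (V' : Type v) [AddCommGroup V'] [Module F V'] [FiniteDimensional F V'],
      finrank F V' < finrank F V → ∀ Γ' : Subgroup (V' ≃ₗ[F] V'), Finite Γ' →
      Group.IsSolvable Γ' → Good Γ')
    (Γ : Subgroup (V ≃ₗ[F] V)) (hfin : Finite Γ) (hsol : Group.IsSolvable Γ)
    (U : Submodule F V) (hU0 : U ≠ ⊥) (hU1 : U ≠ ⊤) (hinv : Inv Γ U) : Good Γ := by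
  have h : Cfsg.Agent.Helper4.ThB.Inv (Γ : Set (V ≃ₗ[F] V)) U := fun γ hγ u hu => hinv γ hγ u hu
  -- dimensions
  have hdU : finrank F U < finrank F V := Submodule.finrank_lt hU1
  have hdQ : finrank F (V ⧸ U) < finrank F V := by
    have h1 := Submodule.finrank_quotient_add_finrank U
    have h2 : 0 < finrank F U := by
      rw [Nat.pos_iff_ne_zero]
      intro h0
      exact hU0 (Submodule.finrank_eq_zero.1 h0)
    omega
  -- the two images
  have := hfin
  have hfU : Finite ↥(resHom Γ U h).range :=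
    Finite.of_surjective _ (resHom Γ U h).rangeRestrict_surjective
  have hfQ : Finite ↥(quotHom Γ U h).range :=
    Finite.of_surjective _ (quotHom Γ U h).rangeRestrict_surjective
  have hsU : Group.IsSolvable ↥(resHom Γ U h).range :=
    Group.isSolvable_of_surjective (resHom Γ U h).rangeRestrict_surjective
  have hsQ : Group.IsSolvable ↥(quotHom Γ U h).range :=
    Group.isSolvable_of_surjective (quotHom Γ U h).rangeRestrict_surjective
  have gU : Good (resHom Γ U h).range := ih ↥U hdU _ hfU hsU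
  have gQ : Good (quotHom Γ U h).range := ih (V ⧸ U) hdQ _ hfQ hsQ
  -- the kernel is a 2-group
  have hK : IsPGroup 2 ↥((resHom Γ U h).rangeRestrict.ker ⊓ (quotHom Γ U h).rangeRestrict.ker) := by
    intro x
    refine ⟨1, ?_⟩
    have hx := x.2
    rw [Subgroup.mem_inf, MonoidHom.mem_ker, MonoidHom.mem_ker] at hx
    have h1 : resHom Γ U h x.1 = 1 := congrArg Subtype.val hx.1
    have h2 : quotHom Γ U h x.1 = 1 := congrArg Subtype.val hx.2
    have h3 := sq_eq_one_of_res_quot Γ U h x.1 h1 h2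
    apply Subtype.ext
    rw [pow_one]
    exact h3
  have hsub := subdirect_two (resHom Γ U h).rangeRestrict (quotHom Γ U h).rangeRestrict hK
  -- the main argument
  intro g hg m hm htight
  have hUg := gU (resHom Γ U h ⟨g, hg⟩) ⟨_, rfl⟩ m hm (tight_res Γ U h ⟨g, hg⟩ _ htight)
  have hQg := gQ (quotHom Γ U h ⟨g, hg⟩) ⟨_, rfl⟩ m hm (tight_quot Γ U h ⟨g, hg⟩ _ htight)
  have m1 : (resHom Γ U h).rangeRestrict (⟨g, hg⟩ ^ 2 ^ (m - 1)) ∈
      o22p2 ↥(resHom Γ U h).range := by
    obtain ⟨y, hy, hyg⟩ := hUg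
    have : (resHom Γ U h).rangeRestrict (⟨g, hg⟩ ^ 2 ^ (m - 1)) = y := by
      apply Subtype.ext
      rw [MonoidHom.coe_rangeRestrict, map_pow]
      exact hyg.symm
    rw [this]
    exact hy
  have m2 : (quotHom Γ U h).rangeRestrict (⟨g, hg⟩ ^ 2 ^ (m - 1)) ∈
      o22p2 ↥(quotHom Γ U h).range := by
    obtain ⟨y, hy, hyg⟩ := hQg
    have : (quotHom Γ U h).rangeRestrict (⟨g, hg⟩ ^ 2 ^ (m - 1)) = y := by
      apply Subtype.ext
      rw [MonoidHom.coe_rangeRestrict, map_pow]
      exact hyg.symm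
    rw [this]
    exact hy
  have m3 : (⟨g, hg⟩ : ↥Γ) ^ 2 ^ (m - 1) ∈
      (o22p2 ↥(resHom Γ U h).range).comap (resHom Γ U h).rangeRestrict ⊓
        (o22p2 ↥(quotHom Γ U h).range).comap (quotHom Γ U h).rangeRestrict :=
    Subgroup.mem_inf.2 ⟨Subgroup.mem_comap.2 m1, Subgroup.mem_comap.2 m2⟩
  have m4 := hsub m3
  refine ⟨_, m4, ?_⟩
  rw [Subgroup.subtype_apply, Subgroup.coe_pow]

end Cfsg.Agent.G2L
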