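import Mathlib
import Cfsg.Agent.Lib.G2L.StepRed
import Cfsg.Agent.Lib.G2L.StepImp
import Cfsg.Agent.Lib.G2L.StepPrim

/-!
# S3801 / G2L: Gross's theorem (T) over an algebraically closed field, by induction on the dimension
-/

set_option autoImplicit false

namespace Cfsg.Agent.G2L

open Cfsg Subgroup Module Cfsg.Agent.Helper4.ThB

universe u v

theorem main_alg_aux {F : Type u} [Field F] [CharP F 2] [IsAlgClosed F] :
    ∀ (d : ℕ) (V : Type v) [AddCommGroup V] [Module F V] [FiniteDimensional F V],
      finrank F V = d → ∀ Γ : Subgroup (V ≃ₗ[F] V), Finite Γ → Group.IsSolvable Γ → Good Γ := by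
  intro d
  induction d using Nat.strong_induction_on with
  | _ d ih =>
  intro V _ _ _ hd Γ hfin hsol
  have ih' : ∀ (V' : Type v) [AddCommGroup V'] [Module F V'] [FiniteDimensional F V'],
      finrank F V' < finrank F V → ∀ Γ' : Subgroup (V' ≃ₗ[F] V'), Finite Γ' →
      Group.IsSolvable Γ' → Good Γ' := by
    intro V' _ _ _ hlt Γ' hfin' hsol'
    exact ih (finrank F V') (hd ▸ hlt) V' rfl Γ' hfin' hsol'
  by_cases hblk : ∃ S : Finset (Submodule F V), IsBlockSystem Γ S
  · obtain ⟨S, hS⟩ := hblk
    exact step_imprimitive ih' Γ hfin hsol S hS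
  · by_cases hirr : Irr (Γ : Set (V ≃ₗ[F] V))
    · by_cases hnt : Nontrivial V
      · exact step_primitive Γ hfin hsol hirr hblk
      · -- `V` is trivial, so `GL(V)` is trivial
        rw [not_nontrivial_iff_subsingleton] at hnt
        intro g hg m hm _
        have h1 : g = 1 := by
          apply LinearEquiv.ext
          intro v
          exact Subsingleton.elim _ _
        rw [h1, one_pow]
        exact Subgroup.one_mem _
    · unfold Irr at hirr
      push Not at hirr
      obtain ⟨U, hU, hU0, hU1⟩ := hirr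
      exact step_reducible ih' Γ hfin hsol U hU0 hU1 hU

theorem main_alg {F : Type u} [Field F] [CharP F 2] [IsAlgClosed F] {V : Type v} [AddCommGroup V]
    [Module F V] [FiniteDimensional F V] (Γ : Subgroup (V ≃ₗ[F] V)) (hfin : Finite Γ)
    (hsol : Group.IsSolvable Γ) : Good Γ :=
  main_alg_aux (finrank F V) V rfl Γ hfin hsol

end Cfsg.Agent.G2L
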