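import Mathlib
import Cfsg.Agent.Lib.G2L.MainAlg
import Cfsg.Agent.Lib.Helper10.SecApply
import Cfsg.Agent.Lib.Helper10.PTerminal

/-!
# S3801 / G2L, BLOCK BC (base change): Gross's theorem (T) for a faithful representation over `ZMod 2`
of a finite solvable group `H` with `O_2(H) = 1`, from `main_alg` over the algebraic closure
(`Cfsg.Agent.Helper4.ThB.bcHom`, `bcHom_injective`, `op_bcHom_sub_one_pow`).
-/

set_option autoImplicit false

namespace Cfsg.Agent.G2L

open Cfsg Subgroup Module Cfsg.Agent.Helper4.ThB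

universe u v

section transport

variable {A B : Type*} [Group A] [Group B]

theorem g2lbc_mem_pCore_iff (p : ℕ) (e : A ≃* B) (x : A) : x ∈ pCore p A ↔ e x ∈ pCore p B := by
  rw [← Cfsg.Agent.Helper10.pCore_map_equiv (p := p) e]
  exact (Subgroup.mem_map_iff_mem (f := e.toMonoidHom) e.injective).symm

theorem g2lbc_mem_pPrimePCore_iff [Finite A] (p : ℕ) [Fact p.Prime] (e : A ≃* B) (x : A) :
    x ∈ pPrimePCore p A ↔ e x ∈ pPrimePCore p B := by
  have hcore := Cfsg.Agent.Helper10.pPrimeCore_map_mulEquiv p e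
  let iso : A ⧸ pPrimeCore p A ≃* B ⧸ pPrimeCore p B := QuotientGroup.congr _ _ e hcore
  unfold pPrimePCore
  rw [Subgroup.mem_comap, Subgroup.mem_comap, g2lbc_mem_pCore_iff p iso]
  rfl

theorem g2lbc_mem_o22p2_iff [Finite A] (e : A ≃* B) (x : A) : x ∈ o22p2 A ↔ e x ∈ o22p2 B := by
  have hcore := Cfsg.Agent.Helper10.pCore_map_equiv (p := 2) e
  let iso : A ⧸ pCore 2 A ≃* B ⧸ pCore 2 B := QuotientGroup.congr _ _ e hcore
  unfold o22p2
  rw [Subgroup.mem_comap, Subgroup.mem_comap, g2lbc_mem_pPrimePCore_iff 2 iso]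
  rfl

theorem g2lbc_o22p2_iff [Finite A] (h : pCore 2 A = ⊥) (x : A) :
    x ∈ o22p2 A ↔ x ∈ pPrimePCore 2 A := by
  have hinj : Function.Injective (QuotientGroup.mk' (pCore 2 A)) := by
    rw [← MonoidHom.ker_eq_bot_iff, QuotientGroup.ker_mk', h]
  let e0 : A ≃* A ⧸ pCore 2 A :=
    MulEquiv.ofBijective (QuotientGroup.mk' (pCore 2 A)) ⟨hinj, QuotientGroup.mk'_surjective _⟩
  rw [g2lbc_mem_pPrimePCore_iff 2 e0]
  rfl

end transport

open scoped TensorProduct in
theorem main_F2 {H : Type u} [Group H] [Finite H] (hsol : Group.IsSolvable H)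
    (hO : pCore 2 H = ⊥) {V : Type v} [AddCommGroup V] [Module (ZMod 2) V] [Finite V]
    (ρ : H →* (V ≃ₗ[ZMod 2] V)) (hρ : Function.Injective ρ) (g : H) (m : ℕ) (hm : 1 ≤ m)
    (ht : (op (ρ g) - 1) ^ (2 ^ m - 1) = 0) : g ^ 2 ^ (m - 1) ∈ pPrimePCore 2 H := by
  classical
  let K := AlgebraicClosure (ZMod 2)
  have hchar : CharP K 2 := charP_of_injective_algebraMap (algebraMap (ZMod 2) K).injective 2
  have hfinV : Module.Finite (ZMod 2) V := Module.Finite.of_finite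
  let β : (V ≃ₗ[ZMod 2] V) →* ((K ⊗[ZMod 2] V) ≃ₗ[K] (K ⊗[ZMod 2] V)) := bcHom K
  have hβ : Function.Injective β := bcHom_injective K
  let f : H →* ((K ⊗[ZMod 2] V) ≃ₗ[K] (K ⊗[ZMod 2] V)) := β.comp ρ
  have hf : Function.Injective f := hβ.comp hρ
  let e : H ≃* f.range := MonoidHom.ofInjective hf
  have hfin : Finite f.range := Finite.of_equiv H e.toEquiv
  have hsolΓ : Group.IsSolvable f.range :=
    Group.isSolvable_of_surjective (f := e.toMonoidHom) e.surjective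
  have hgood := main_alg (F := K) f.range hfin hsolΓ
  have ht' : (op (f g) - 1) ^ (2 ^ m - 1) = 0 := by
    show (op (bcHom K (ρ g)) - 1) ^ (2 ^ m - 1) = 0
    rw [op_bcHom_sub_one_pow, ht, map_zero]
  obtain ⟨γ, hγ, hγe⟩ := hgood (f g) ⟨g, rfl⟩ m hm ht'
  have h1 : γ = e (g ^ 2 ^ (m - 1)) := by
    apply Subtype.ext
    rw [MonoidHom.ofInjective_apply, map_pow]
    exact hγe
  rw [h1] at hγ
  exact (g2lbc_o22p2_iff hO _).mp ((g2lbc_mem_o22p2_iff e _).mpr hγ)

end Cfsg.Agent.G2L
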