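import Mathlib
import Cfsg.Agent.Lib.G2L.MainF2
import Cfsg.Agent.Lib.Helper26.HHXYQ
import Cfsg.Agent.S4227

/-!
# S3801 / G2L, BLOCK TOP, piece DROP: the exponent drops modulo `O_{2,2',2}`.
Model: `Cfsg.Agent.Helper3.HHX.quotient_pow_comm_of` (same construction of the faithful
representation `ρbar` of `G ⧸ O_2(G)` on the Frattini quotient of `O_2(G)` and same proof of tightness
of the 2-elements of the quotient via `tight_of_exp`), then `main_F2`.
-/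

set_option autoImplicit false

namespace Cfsg.Agent.G2L

open Cfsg Subgroup

universe u

section aux

open Cfsg.Agent.Helper4.ThB Cfsg.Agent.Helper4.PLenExp Cfsg.Agent.Helper20.HHQ
  Cfsg.Agent.Helper8.SecRep Cfsg.Agent.Helper3.HHX

/-- the 2-elements of `G ⧸ O_2(G)` are tight for `n + 1` in the faithful representation on the
Frattini quotient of `O_2(G)`; conclusion via `main_F2` -/
theorem g2l_drop_aux {G : Type u} [Group G] [Finite G] (hsol : Group.IsSolvable G)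
    (hO : pPrimeCore 2 G = ⊥) (n : ℕ)
    (hexp : ∀ z : G, (∃ k : ℕ, z ^ 2 ^ k = 1) → z ^ 2 ^ (n + 1) = 1)
    (x : G ⧸ pCore 2 G) (hx : ∃ k : ℕ, x ^ 2 ^ k = 1) :
    x ^ 2 ^ (n + 1 - 1) ∈ pPrimePCore 2 (G ⧸ pCore 2 G) := by
  classical
  haveI hp : Fact (Nat.Prime 2) := ⟨Nat.prime_two⟩
  have hps : IsPSolvable 2 G := Cfsg.Agent.S4227.isPSolvable_of_isSolvable hsol 2
  have hPp : IsPGroup 2 ↥(pCore 2 G) := Cfsg.Agent.Helper10.pCore_isPGroup 2
  set ρ := secRho (fsec (pCore 2 G) hPp) (ftop (pCore 2 G)) with hρ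
  have hle : pCore 2 G ≤ ρ.ker := le_ker_secRho (fsec (pCore 2 G) hPp) (ftop (pCore 2 G))
  have hker : ρ.ker ≤ pCore 2 G := by
    refine ker_secRho_le (pCore 2 G) hPp (Cfsg.Agent.Helper23.PSolv.centralizer_pCore_le hps hO) ?_
    intro N hN hNp
    exact le_sSup ⟨hN, hNp⟩
  set ρbar : (G ⧸ pCore 2 G) →* (SecW (fsec (pCore 2 G) hPp) ≃ₗ[ZMod 2] SecW (fsec (pCore 2 G) hPp)) :=
    QuotientGroup.lift (pCore 2 G) ρ (fun x hx => hle hx) with hρbar
  have hinj : Function.Injective ρbar := by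
    rw [injective_iff_map_eq_one]
    intro x hx
    obtain ⟨g, rfl⟩ := QuotientGroup.mk_surjective x
    have h1 : ρ g = 1 := by simpa [hρbar] using hx
    have h2 : g ∈ pCore 2 G := hker h1
    exact (QuotientGroup.eq_one_iff g).mpr h2
  haveI := hsol
  have hsolq : Group.IsSolvable (G ⧸ pCore 2 G) := inferInstance
  have hOq : pCore 2 (G ⧸ pCore 2 G) = ⊥ := Cfsg.Agent.Helper18.PSolvLin.pCore_quotient_pCore_bot 2
  refine main_F2 hsolq hOq ρbar hinj x (n + 1) (Nat.le_add_left 1 n) ?_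
  -- tightness of the 2-element `x` of the quotient
  obtain ⟨k, hk⟩ := hx
  have hz : IsPGroup 2 ↥(Subgroup.zpowers x) := by
    rw [IsPGroup.iff_orderOf]
    intro y
    obtain ⟨y, hy⟩ := y
    obtain ⟨m, rfl⟩ := Subgroup.mem_zpowers_iff.mp hy
    have h3 : orderOf (x ^ m) ∣ 2 ^ k := by
      apply orderOf_dvd_of_pow_eq_one
      rw [← zpow_natCast, ← zpow_mul, mul_comm, zpow_mul, zpow_natCast, hk, one_zpow]
    obtain ⟨j, -, hj⟩ := (Nat.dvd_prime_pow hp.out).mp h3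
    refine ⟨j, ?_⟩
    have h4 : orderOf (⟨x ^ m, hy⟩ : Subgroup.zpowers x) = orderOf (x ^ m) := by
      rw [← Subgroup.orderOf_coe]
    rw [h4, hj]
  obtain ⟨Q', hQ'⟩ := hz.exists_le_sylow
  have hhQ : x ∈ Q' := hQ' (Subgroup.mem_zpowers x)
  obtain ⟨S₀⟩ : Nonempty (Sylow 2 G) := inferInstance
  obtain ⟨g', s, hs, hx'⟩ := sylow_quotient_elem (pCore 2 G) S₀ Q' x hhQ
  obtain ⟨g, rfl⟩ := QuotientGroup.mk_surjective g'
  have hsp : ∃ k : ℕ, (g * s * g⁻¹) ^ 2 ^ k = 1 := by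
    obtain ⟨k', hk'⟩ := S₀.2 ⟨s, hs⟩
    refine ⟨k', ?_⟩
    have h5 : s ^ 2 ^ k' = 1 := by simpa using congrArg Subtype.val hk'
    rw [conj_pow, h5]; group
  have h6 : ρbar x = ρ (g * s * g⁻¹) := by
    rw [hx']
    simp [hρbar]
  rw [h6]
  exact tight_of_exp n hexp _ hsp

end aux

theorem drop {G : Type u} [Group G] [Finite G] (hsol : Group.IsSolvable G)
    (hO : pPrimeCore 2 G = ⊥) (n : ℕ) (hn : 1 ≤ n)
    (hexp : ∀ z : G, (∃ k : ℕ, z ^ 2 ^ k = 1) → z ^ 2 ^ (n + 1) = 1)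
    (x : G ⧸ pCore 2 G) (hx : ∃ k : ℕ, x ^ 2 ^ k = 1) :
    x ^ 2 ^ n ∈ pPrimePCore 2 (G ⧸ pCore 2 G) := by
  have h := g2l_drop_aux hsol hO n hexp x hx
  rwa [Nat.add_sub_cancel] at h

end Cfsg.Agent.G2L
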