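import Mathlib
import Cfsg.Agent.Lib.G2L.Drop
import Cfsg.Agent.Lib.Helper25.HHXFB
import Cfsg.Agent.S4227

/-!
# S3801 / G2L, BLOCK TOP, piece BOUND: the final induction `l_2 ≤ 2e - 1`.
Model: `Cfsg.Agent.Helper3.HHX.aux_b_of` (HHXFB.lean), with `drop` in place of `hEB`/`hYQQ`:
strong induction on `|G|`; if `O_{2'}(G) ≠ 1` pass to the quotient; if `O_{2'}(G) = 1`:
for `e = 1` the Sylow 2-subgroup is abelian, so `S ≤ C_G(O_2(G)) ≤ O_2(G)` and `G/O_2(G)` has odd
order (2-length ≤ 1); for `e = n + 1 ≥ 2`, by `drop` the group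
`(G/O_2(G)) / O_{2'} / O_2` has exponent dividing `2^n`, so 2-length ≤ 2n - 1 by induction and
`l_2(G) ≤ 1 + 0 + 1 + (2n - 1) = 2(n+1) - 1`.
-/

set_option autoImplicit false

namespace Cfsg.Agent.G2L

open Cfsg Subgroup

universe u

/-- a group all of whose `2`-elements are trivial has odd order -/
theorem g2lb_coprime_of_no_two_elem {H : Type u} [Group H] [Finite H]
    (h : ∀ z : H, (∃ k : ℕ, z ^ 2 ^ k = 1) → z = 1) : (Nat.card H).Coprime 2 := by
  have : Fact (Nat.Prime 2) := ⟨Nat.prime_two⟩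
  rw [Nat.coprime_comm, Nat.Prime.coprime_iff_not_dvd Nat.prime_two]
  intro hd
  obtain ⟨x, hx⟩ := exists_prime_orderOf_dvd_card' 2 hd
  have h1 : x = 1 := h x ⟨1, by rw [pow_one, ← hx]; exact pow_orderOf_eq_one x⟩
  rw [h1, orderOf_one] at hx
  omega

/-- elements of exponent two whose product has exponent two commute -/
theorem g2lb_comm_of_sq {H : Type u} [Group H] (s t : H) (hs : s ^ 2 = 1) (ht : t ^ 2 = 1)
    (hst : (s * t) ^ 2 = 1) : s * t = t * s := by
  have h1 : s * t * (s * t) = 1 := by rw [← pow_two]; exact hst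
  have h2 : s * s = 1 := by rw [← pow_two]; exact hs
  have h3 : t * t = 1 := by rw [← pow_two]; exact ht
  have hsi : s⁻¹ = s := inv_eq_of_mul_eq_one_right h2
  have hti : t⁻¹ = t := inv_eq_of_mul_eq_one_right h3
  have hsti : (s * t)⁻¹ = s * t := inv_eq_of_mul_eq_one_right h1
  calc s * t = (s * t)⁻¹ := hsti.symm
    _ = t⁻¹ * s⁻¹ := mul_inv_rev s t
    _ = t * s := by rw [hsi, hti]

theorem bound : ∀ (c : ℕ) (G : Type u) [Group G] [Finite G], Nat.card G = c →
    Group.IsSolvable G → ∀ e : ℕ, 1 ≤ e →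
    (∀ z : G, (∃ k : ℕ, z ^ 2 ^ k = 1) → z ^ 2 ^ e = 1) → PLengthLE 2 (2 * e - 1) G := by
  have hp2 : Fact (Nat.Prime 2) := ⟨Nat.prime_two⟩
  intro c
  induction c using Nat.strong_induction_on with
  | _ c ih =>
  intro G _ _ hc hsolv e he hexp
  have hsol : IsPSolvable 2 G := Cfsg.Agent.S4227.isPSolvable_of_isSolvable hsolv 2
  by_cases hO : pPrimeCore 2 G = ⊥
  · -- O_{2'}(G) = 1
    have hHp : IsPGroup 2 (pCore 2 G) := Cfsg.Agent.Helper10.pCore_isPGroup 2
    have hcz : centralizer (pCore 2 G : Set G) ≤ pCore 2 G :=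
      Cfsg.Agent.Helper23.PSolv.centralizer_pCore_le hsol hO
    by_cases hHbot : pCore 2 G = ⊥
    · have htop : (⊤ : Subgroup G) ≤ ⊥ := by
        have : centralizer ((⊥ : Subgroup G) : Set G) = ⊤ := by
          rw [Subgroup.coe_bot]; exact Subgroup.centralizer_eq_top_iff_subset.2 (by
            intro x hx; rw [Set.mem_singleton_iff] at hx; rw [hx]; exact Subgroup.one_mem _)
        rw [hHbot, this] at hcz
        exact hcz
      have hcard : Nat.card G = 1 := by
        have h1 : (⊤ : Subgroup G) = ⊥ := le_bot_iff.1 htop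
        rw [← Subgroup.card_top (G := G), h1]
        exact Subgroup.card_bot
      have h0 : PLengthLE 2 0 G :=
        Cfsg.Agent.Helper19.PLen.plengthLE_zero_of_coprime
          (by rw [hcard]; exact Nat.coprime_one_left 2)
      exact Cfsg.Agent.Helper19.PLen.plengthLE_mono (Nat.zero_le _) h0
    · obtain ⟨n, rfl⟩ : ∃ n : ℕ, e = n + 1 := ⟨e - 1, by omega⟩
      rcases Nat.eq_zero_or_pos n with hn0 | hn
      · -- e = 1 : the Sylow 2-subgroups are elementary abelian
        subst hn0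
        have hexp' : ∀ z : G, (∃ k : ℕ, z ^ 2 ^ k = 1) → z ^ 2 = 1 := by
          intro z hz
          have := hexp z hz
          simpa using this
        have hcen : ∀ s : G, (∃ k : ℕ, s ^ 2 ^ k = 1) → s ∈ pCore 2 G := by
          intro s hs
          apply hcz
          rw [Subgroup.mem_centralizer_iff]
          intro u hu
          have hu2 : u ^ 2 = 1 :=
            hexp' u (Cfsg.Agent.Helper4.PLenExp.exists_pow_of_mem_isPGroup hHp hu)
          have hs2 : s ^ 2 = 1 := hexp' s hs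
          have hnorm : (pCore 2 G).Normal := Cfsg.Agent.Helper10.pCore_normal 2
          have hsup : IsPGroup 2 ↥(zpowers s ⊔ pCore 2 G) :=
            IsPGroup.to_sup_of_normal_right
              (Cfsg.Agent.Helper4.PLenExp.isPGroup_zpowers_of_pow s hs) hHp
          have hmem : s * u ∈ zpowers s ⊔ pCore 2 G :=
            Subgroup.mul_mem _ (le_sup_left (a := zpowers s) (mem_zpowers s))
              (le_sup_right (a := zpowers s) hu)
          have hsu2 : (s * u) ^ 2 = 1 :=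
            hexp' (s * u) (Cfsg.Agent.Helper4.PLenExp.exists_pow_of_mem_isPGroup hsup hmem)
          exact (g2lb_comm_of_sq s u hs2 hu2 hsu2).symm
        have hnorm : (pCore 2 G).Normal := Cfsg.Agent.Helper10.pCore_normal 2
        have hQ : ∀ z : G ⧸ pCore 2 G, (∃ k : ℕ, z ^ 2 ^ k = 1) → z = 1 := by
          intro z' hz'
          obtain ⟨g', s, hs, rfl⟩ := Cfsg.Agent.Helper3.HHX.hhxfb_exists_lift (pCore 2 G) z' hz'
          have h1 : QuotientGroup.mk' (pCore 2 G) s = 1 :=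
            (QuotientGroup.eq_one_iff _).mpr (hcen s hs)
          rw [h1]
          group
        have h0 : PLengthLE 2 0 (G ⧸ pCore 2 G) :=
          Cfsg.Agent.Helper19.PLen.plengthLE_zero_of_coprime (g2lb_coprime_of_no_two_elem hQ)
        have hP : PLengthLE 2 1 (pCore 2 G) :=
          Cfsg.Agent.Helper19.PLen.plengthLE_one_of_isPGroup hHp
        have h0len := Cfsg.Agent.Helper19.PLen.plengthLE_add _ hP h0
        exact Cfsg.Agent.Helper19.PLen.plengthLE_mono (by omega) h0len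
      · -- e = n + 1 with n ≥ 1
        have hnorm : (pCore 2 G).Normal := Cfsg.Agent.Helper10.pCore_normal 2
        have hdrop := drop hsolv hO n hn hexp
        have hsolv1 : Group.IsSolvable (G ⧸ pCore 2 G) := inferInstance
        have hsolv2 : Group.IsSolvable ((G ⧸ pCore 2 G) ⧸ pPrimeCore 2 (G ⧸ pCore 2 G)) :=
          inferInstance
        have hnorm2 : (pCore 2 ((G ⧸ pCore 2 G) ⧸ pPrimeCore 2 (G ⧸ pCore 2 G))).Normal :=
          Cfsg.Agent.Helper10.pCore_normal 2
        have hsolv3 : Group.IsSolvable (((G ⧸ pCore 2 G) ⧸ pPrimeCore 2 (G ⧸ pCore 2 G)) ⧸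
            pCore 2 ((G ⧸ pCore 2 G) ⧸ pPrimeCore 2 (G ⧸ pCore 2 G))) := inferInstance
        -- `2`-elements of the second quotient have their `2^n`-th power in `O_2`
        have hpow2 : ∀ s : (G ⧸ pCore 2 G) ⧸ pPrimeCore 2 (G ⧸ pCore 2 G),
            (∃ k : ℕ, s ^ 2 ^ k = 1) →
            s ^ 2 ^ n ∈ pCore 2 ((G ⧸ pCore 2 G) ⧸ pPrimeCore 2 (G ⧸ pCore 2 G)) := by
          intro s' hs'
          obtain ⟨g', t, ht, rfl⟩ := Cfsg.Agent.Helper3.HHX.hhxfb_exists_lift _ s' hs'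
          have h1 := hdrop t ht
          have h2 : (QuotientGroup.mk' (pPrimeCore 2 (G ⧸ pCore 2 G)) t) ^ 2 ^ n ∈
              pCore 2 ((G ⧸ pCore 2 G) ⧸ pPrimeCore 2 (G ⧸ pCore 2 G)) := by
            rw [← map_pow]
            exact h1
          have h3 : (g' * QuotientGroup.mk' (pPrimeCore 2 (G ⧸ pCore 2 G)) t * g'⁻¹) ^ 2 ^ n =
              g' * (QuotientGroup.mk' (pPrimeCore 2 (G ⧸ pCore 2 G)) t) ^ 2 ^ n * g'⁻¹ := conj_pow
          rw [h3]
          exact hnorm2.conj_mem _ h2 g'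
        have hexp3 : ∀ z : ((G ⧸ pCore 2 G) ⧸ pPrimeCore 2 (G ⧸ pCore 2 G)) ⧸
            pCore 2 ((G ⧸ pCore 2 G) ⧸ pPrimeCore 2 (G ⧸ pCore 2 G)),
            (∃ k : ℕ, z ^ 2 ^ k = 1) → z ^ 2 ^ n = 1 := by
          intro z' hz'
          obtain ⟨g', s, hs, rfl⟩ := Cfsg.Agent.Helper3.HHX.hhxfb_exists_lift _ z' hz'
          have h1 := hpow2 s hs
          have h2 : (QuotientGroup.mk'
              (pCore 2 ((G ⧸ pCore 2 G) ⧸ pPrimeCore 2 (G ⧸ pCore 2 G))) s) ^ 2 ^ n = 1 := by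
            rw [← map_pow]
            exact (QuotientGroup.eq_one_iff _).mpr h1
          have h3 : (g' * QuotientGroup.mk'
              (pCore 2 ((G ⧸ pCore 2 G) ⧸ pPrimeCore 2 (G ⧸ pCore 2 G))) s * g'⁻¹) ^ 2 ^ n =
              g' * (QuotientGroup.mk'
                (pCore 2 ((G ⧸ pCore 2 G) ⧸ pPrimeCore 2 (G ⧸ pCore 2 G))) s) ^ 2 ^ n * g'⁻¹ :=
            conj_pow
          rw [h3, h2]
          group
        have hlt : Nat.card (((G ⧸ pCore 2 G) ⧸ pPrimeCore 2 (G ⧸ pCore 2 G)) ⧸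
            pCore 2 ((G ⧸ pCore 2 G) ⧸ pPrimeCore 2 (G ⧸ pCore 2 G))) < c := by
          have h1 : Nat.card (G ⧸ pCore 2 G) < c :=
            hc ▸ Cfsg.Agent.Helper3.HHX.hhxfb_card_quotient_lt _ hHbot
          have h2 := Cfsg.Agent.Helper3.HHX.hhxfb_card_quotient_le
            (pPrimeCore 2 (G ⧸ pCore 2 G))
          have h3 := Cfsg.Agent.Helper3.HHX.hhxfb_card_quotient_le
            (pCore 2 ((G ⧸ pCore 2 G) ⧸ pPrimeCore 2 (G ⧸ pCore 2 G)))
          omega
        have hih := ih _ hlt _ rfl hsolv3 n hn hexp3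
        have hR : PLengthLE 2 1 (pCore 2 ((G ⧸ pCore 2 G) ⧸ pPrimeCore 2 (G ⧸ pCore 2 G))) :=
          Cfsg.Agent.Helper19.PLen.plengthLE_one_of_isPGroup
            (Cfsg.Agent.Helper10.pCore_isPGroup 2)
        have h2len := Cfsg.Agent.Helper19.PLen.plengthLE_add _ hR hih
        have hM : PLengthLE 2 0 (pPrimeCore 2 (G ⧸ pCore 2 G)) :=
          Cfsg.Agent.Helper19.PLen.plengthLE_zero_of_coprime
            (Cfsg.Agent.Helper22.card_pPrimeCore_coprime 2)
        have h1len := Cfsg.Agent.Helper19.PLen.plengthLE_add _ hM h2len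
        have hP : PLengthLE 2 1 (pCore 2 G) :=
          Cfsg.Agent.Helper19.PLen.plengthLE_one_of_isPGroup hHp
        have h0len := Cfsg.Agent.Helper19.PLen.plengthLE_add _ hP h1len
        exact Cfsg.Agent.Helper19.PLen.plengthLE_mono (by omega) h0len
  · -- O_{2'}(G) ≠ 1
    have hnormO : (pPrimeCore 2 G).Normal := inferInstance
    have hlt : Nat.card (G ⧸ pPrimeCore 2 G) < c :=
      hc ▸ Cfsg.Agent.Helper3.HHX.hhxfb_card_quotient_lt _ hO
    have hsolQ : Group.IsSolvable (G ⧸ pPrimeCore 2 G) := inferInstance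
    have hexpQ := Cfsg.Agent.Helper3.HHX.hhxfb_exp_quotient (pPrimeCore 2 G) e hexp
    have hih := ih _ hlt (G ⧸ pPrimeCore 2 G) rfl hsolQ e he hexpQ
    have hNlen : PLengthLE 2 0 (pPrimeCore 2 G) :=
      Cfsg.Agent.Helper19.PLen.plengthLE_zero_of_coprime
        (Cfsg.Agent.Helper22.card_pPrimeCore_coprime 2)
    have hadd := Cfsg.Agent.Helper19.PLen.plengthLE_add _ hNlen hih
    rwa [zero_add] at hadd

end Cfsg.Agent.G2L
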