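import Mathlib
import Cfsg.Agent.Lib.G2L.MainAlg
import Cfsg.Agent.Lib.Helper10.SecApply
import Cfsg.Agent.Lib.Helper10.PTerminal

/-!
# S3801 / G2L, piece BC: Gross's theorem (T) in the abstract form of `Cfsg.Agent.Helper21.GT.gross_T`
(same statement, other name), from `main_alg` by base change to the algebraic closure.

Proof: `K = AlgebraicClosure F`, `β = Helper4.ThB.bcHom K` (ThBBase.lean: `bcHom_injective`,
`op_bcHom_sub_one_pow`), `f = β.comp ρ` injective, `Γ = f.range` (finite, solvable as an image of `H`),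
`main_alg Γ` gives `Good Γ`; apply it to `f g` (tightness transported by `op_bcHom_sub_one_pow`;
`CharP K 2` by `charP_of_injective_algebraMap`; `K ⊗[F] V` finite-dimensional over `K`). Transport
`(f g)^(2^(m-1)) ∈ (o22p2 ↥Γ).map Γ.subtype` along `e : H ≃* Γ` (`MonoidHom.ofInjective`): `o22p2` is
preserved by `MulEquiv` (`pCore`, `pPrimeCore`, `pPrimePCore` are `sSup` of isomorphism-invariant families)
and `o22p2 H = pPrimePCore 2 H` when `pCore 2 H = ⊥`.
Model for the base-change bookkeeping: `thmB_field` in Helper4/ThBField.lean.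
-/

set_option autoImplicit false

namespace Cfsg.Agent.G2L

open Cfsg Subgroup Module Cfsg.Agent.Helper4.ThB

universe u v w

section transport

variable {A B : Type*} [Group A] [Group B]

theorem g2lgt_mem_pCore_iff (p : ℕ) (e : A ≃* B) (x : A) : x ∈ pCore p A ↔ e x ∈ pCore p B := by
  rw [← Cfsg.Agent.Helper10.pCore_map_equiv (p := p) e]
  exact (Subgroup.mem_map_iff_mem (f := e.toMonoidHom) e.injective).symm

theorem g2lgt_mem_pPrimePCore_iff [Finite A] (p : ℕ) [Fact p.Prime] (e : A ≃* B) (x : A) :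
    x ∈ pPrimePCore p A ↔ e x ∈ pPrimePCore p B := by
  have hcore := Cfsg.Agent.Helper10.pPrimeCore_map_mulEquiv p e
  let iso : A ⧸ pPrimeCore p A ≃* B ⧸ pPrimeCore p B := QuotientGroup.congr _ _ e hcore
  unfold pPrimePCore
  rw [Subgroup.mem_comap, Subgroup.mem_comap, g2lgt_mem_pCore_iff p iso]
  rfl

theorem g2lgt_mem_o22p2_iff [Finite A] (e : A ≃* B) (x : A) : x ∈ o22p2 A ↔ e x ∈ o22p2 B := by
  have hcore := Cfsg.Agent.Helper10.pCore_map_equiv (p := 2) e
  let iso : A ⧸ pCore 2 A ≃* B ⧸ pCore 2 B := QuotientGroup.congr _ _ e hcore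
  unfold o22p2
  rw [Subgroup.mem_comap, Subgroup.mem_comap, g2lgt_mem_pPrimePCore_iff 2 iso]
  rfl

theorem g2lgt_o22p2_iff [Finite A] (h : pCore 2 A = ⊥) (x : A) :
    x ∈ o22p2 A ↔ x ∈ pPrimePCore 2 A := by
  have hinj : Function.Injective (QuotientGroup.mk' (pCore 2 A)) := by
    rw [← MonoidHom.ker_eq_bot_iff, QuotientGroup.ker_mk', h]
  let e0 : A ≃* A ⧸ pCore 2 A :=
    MulEquiv.ofBijective (QuotientGroup.mk' (pCore 2 A)) ⟨hinj, QuotientGroup.mk'_surjective _⟩
  rw [g2lgt_mem_pPrimePCore_iff 2 e0]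
  rfl

end transport

open scoped TensorProduct in
theorem gross_T_of_main_alg {F : Type u} [Field F] [CharP F 2] {V : Type v} [AddCommGroup V]
    [Module F V] [FiniteDimensional F V] {H : Type w} [Group H] [Finite H]
    (hsolv : Group.IsSolvable H) (hO2 : Cfsg.pCore 2 H = ⊥) (ρ : H →* (V ≃ₗ[F] V))
    (hρ : Function.Injective ρ) (g : H) (m : ℕ) (hm : 1 ≤ m) (hgm : g ^ 2 ^ m = 1)
    (ht : (op (ρ g) - 1) ^ (2 ^ m - 1) = 0) : g ^ 2 ^ (m - 1) ∈ Cfsg.pPrimePCore 2 H := by
  classical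
  let K := AlgebraicClosure F
  have hchar : CharP K 2 := charP_of_injective_algebraMap (algebraMap F K).injective 2
  let β : (V ≃ₗ[F] V) →* ((K ⊗[F] V) ≃ₗ[K] (K ⊗[F] V)) := bcHom K
  have hβ : Function.Injective β := bcHom_injective K
  let f : H →* ((K ⊗[F] V) ≃ₗ[K] (K ⊗[F] V)) := β.comp ρ
  have hf : Function.Injective f := hβ.comp hρ
  let e : H ≃* f.range := MonoidHom.ofInjective hf
  have hfin : Finite f.range := Finite.of_equiv H e.toEquiv
  have hsolΓ : Group.IsSolvable f.range :=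
    Group.isSolvable_of_surjective (f := e.toMonoidHom) e.surjective
  have hgood := main_alg (F := K) f.range hfin hsolΓ
  have ht' : (op (f g) - 1) ^ (2 ^ m - 1) = 0 := by
    show (op (bcHom K (ρ g)) - 1) ^ (2 ^ m - 1) = 0
    rw [op_bcHom_sub_one_pow, ht, map_zero]
  obtain ⟨γ, hγ, hγe⟩ := hgood (f g) ⟨g, rfl⟩ m hm ht'
  have h1 : γ = e (g ^ 2 ^ (m - 1)) := by
    apply Subtype.ext
    rw [MonoidHom.ofInjective_apply, map_pow]
    exact hγe
  rw [h1] at hγ
  exact (g2lgt_o22p2_iff hO2 _).mp ((g2lgt_mem_o22p2_iff e _).mpr hγ)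

end Cfsg.Agent.G2L
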