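import Mathlib
import Cfsg.Agent.Lib.G2L.Defs
import Cfsg.Agent.Lib.Helper4.ThBCrit

/-!
# S3801 / G2L, BLOCK PRIM-ALG: the "plane torus" theorem (interface; FROZEN statements)

`I ≤ GL(V)` finite of odd order, "extraspecial type": commutators of `I` are scalars, elements of `I`
commuting with `I` are scalars. `a ∈ N_{GL(V)}(I)` tight for `m` (`(a-1)^(2^m-1) = 0`), and the socle
`a₀ = a^(2^(m-1))` fixes only scalars in `I`. Then `a ∈ span_F(I)` and `|I : scalars of I| = (2^m-1)^2`.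

Proof sketch (see board msg of helper13 and plans/S3801_plan.md):
(1) `End V = ⨁_{x ∈ I/Z} x * B`, `B = C_{End V}(I)` (eigenspaces of the conjugation action of the abelian
    group `I/Z` of odd order on `End V`; characters `χ_x(y) = [y,x]`; nondegenerate pairing).
(2) `a = a_A * a_B`, `a_A ∈ A = span I`, `a_B ∈ B`; rescale to `a_A^N = a_B^N = 1`, `N = 2^m`.
(3) `(a-1)^(N-1) = ∑_j x^(N-1-j) (1+x)^j y^j` for `x = a_A - 1`, `y = a_B - 1`; tight iff `s + b ≤ N`
    (`s`, `b` the nilpotency indices).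
(4) `crit_main` on a minimal `A`-invariant subspace gives `s = N-1`; so `b = 1`, `a_B = 1`.
-/

set_option autoImplicit false

namespace Cfsg.Agent.G2L

open Cfsg Subgroup Module Cfsg.Agent.Helper4.ThB

universe u v

variable {F : Type u} [Field F] {V : Type v} [AddCommGroup V] [Module F V]

/-- `x` acts as a scalar -/
def IsScal (x : V ≃ₗ[F] V) : Prop := ∃ c : F, op x = c • (1 : Module.End F V)

/-- the linear span of a linear group inside `End V` -/
def spanOp (I : Subgroup (V ≃ₗ[F] V)) : Submodule F (Module.End F V) :=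
  Submodule.span F (op '' (I : Set (V ≃ₗ[F] V)))

/-- the span of a group is closed under multiplication -/
theorem spanOp_mul_mem (I : Subgroup (V ≃ₗ[F] V)) {S T : Module.End F V}
    (hS : S ∈ spanOp I) (hT : T ∈ spanOp I) : S * T ∈ spanOp I := by
  sorry

/-- **plane torus theorem** -/
theorem pt_main [CharP F 2] [IsAlgClosed F] [FiniteDimensional F V] [Nontrivial V]
    (I : Subgroup (V ≃ₗ[F] V)) [Finite I] (hodd : Odd (Nat.card I))
    (hcl : ∀ x ∈ I, ∀ y ∈ I, IsScal (x * y * x⁻¹ * y⁻¹))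
    (hnd : ∀ x ∈ I, (∀ y ∈ I, x * y = y * x) → IsScal x)
    (a : V ≃ₗ[F] V) (ha : ∀ x ∈ I, a * x * a⁻¹ ∈ I) (m : ℕ) (hm : 1 ≤ m)
    (ht : (op a - 1) ^ (2 ^ m - 1) = 0)
    (hfix : ∀ x ∈ I, a ^ 2 ^ (m - 1) * x = x * a ^ 2 ^ (m - 1) → IsScal x)
    (hnt : ∃ x ∈ I, ¬ IsScal x) :
    op a ∈ spanOp I ∧
      ∀ Z : Subgroup (V ≃ₗ[F] V), (∀ x, x ∈ Z ↔ x ∈ I ∧ IsScal x) →
        Nat.card I = (2 ^ m - 1) ^ 2 * Nat.card Z := by
  sorry

/-- an element of `span I` commuting with `I` is a scalar (the centre of the twisted group algebra) -/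
theorem isScal_of_mem_spanOp_of_commute [FiniteDimensional F V]
    (I : Subgroup (V ≃ₗ[F] V)) [Finite I] (hodd : Odd (Nat.card I)) [CharP F 2]
    (hcl : ∀ x ∈ I, ∀ y ∈ I, IsScal (x * y * x⁻¹ * y⁻¹))
    (hnd : ∀ x ∈ I, (∀ y ∈ I, x * y = y * x) → IsScal x)
    (u : V ≃ₗ[F] V) (hu : op u ∈ spanOp I) (hc : ∀ x ∈ I, u * x = x * u) : IsScal u := by
  sorry

end Cfsg.Agent.G2L
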